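import Mathlib
import Groth.Prelude.Def_EtGlue

/-!
Glueing pairs and glueable modules: elementary criteria.
-/

namespace Groth.Agent.EtGlueLib

universe u

open TensorProduct EtGlue

variable {R R' : Type u} [CommRing R] [CommRing R'] [Algebra R R'] {f : R}

theorem exists_ring_decomp (hq : QuotPowBijective R R' f) (n : ℕ) (x : R') :
    ∃ (s : R) (x' : R'), x = algebraMap R R' s + algebraMap R R' f ^ n * x' := by
  rcases Nat.eq_zero_or_pos n with rfl | hn
  · exact ⟨0, x, by simp⟩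
  obtain ⟨s, hs⟩ := (hq n hn).2 (Ideal.Quotient.mk _ x)
  obtain ⟨s, rfl⟩ := Ideal.Quotient.mk_surjective s
  rw [Ideal.quotientMap_mk, Ideal.Quotient.eq, Ideal.map_span, Set.image_singleton,
    Ideal.mem_span_singleton'] at hs
  obtain ⟨c, hc⟩ := hs
  refine ⟨s, -c, ?_⟩
  rw [mul_neg, ← map_pow, mul_comm, hc]
  ring

theorem exists_decomp (hq : QuotPowBijective R R' f) {M : Type u} [AddCommGroup M] [Module R M] (n : ℕ)
    (x : R' ⊗[R] M) : ∃ (m : M) (x' : R' ⊗[R] M), x = (1 : R') ⊗ₜ[R] m + f ^ n • x' := by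
  induction x using TensorProduct.induction_on with
  | zero => exact ⟨0, 0, by simp⟩
  | tmul r m =>
    obtain ⟨s, r', rfl⟩ := exists_ring_decomp hq n r
    refine ⟨s • m, r' ⊗ₜ m, ?_⟩
    rw [TensorProduct.add_tmul, ← TensorProduct.smul_tmul, TensorProduct.smul_tmul']
    congr 2
    · simp [Algebra.smul_def]
    · rw [Algebra.smul_def, map_pow]
  | add a b ha hb =>
    obtain ⟨m, a', rfl⟩ := ha
    obtain ⟨m', b', rfl⟩ := hb
    exact ⟨m + m', a' + b', by rw [TensorProduct.tmul_add, smul_add]; abel⟩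

theorem exists_eq_smul_of_tmul_eq (hq : QuotPowBijective R R' f) {M : Type u} [AddCommGroup M] [Module R M]
    {n : ℕ} {a : M} {x : R' ⊗[R] M} (h : (1 : R') ⊗ₜ[R] a = f ^ n • x) : ∃ b : M, a = f ^ n • b := by
  rcases Nat.eq_zero_or_pos n with rfl | hn
  · exact ⟨a, by simp⟩
  let q : (R ⧸ Ideal.span {f ^ n}) →ₗ[R] (R' ⧸ (Ideal.span {f ^ n}).map (algebraMap R R')) :=
    { toFun := Ideal.quotientMap _ (algebraMap R R') Ideal.le_comap_map
      map_add' := map_add _
      map_smul' := fun r z => by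
        obtain ⟨z, rfl⟩ := Ideal.Quotient.mk_surjective z
        rw [RingHom.id_apply, Algebra.smul_def, Algebra.smul_def, map_mul]
        rfl }
  let e := LinearEquiv.ofBijective q (hq n hn)
  let ρ : R' ⊗[R] M →ₗ[R] M ⧸ (Ideal.span {f ^ n} • (⊤ : Submodule R M)) :=
    (TensorProduct.quotTensorEquivQuotSMul M (Ideal.span {f ^ n})).toLinearMap ∘ₗ
      LinearMap.rTensor M (e.symm.toLinearMap ∘ₗ
        (Ideal.Quotient.mkₐ R ((Ideal.span {f ^ n}).map (algebraMap R R'))).toLinearMap)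
  have hρ : ρ ((1 : R') ⊗ₜ[R] a) = Submodule.Quotient.mk a := by
    show TensorProduct.quotTensorEquivQuotSMul M _ ((e.symm (Ideal.Quotient.mk _ 1)) ⊗ₜ[R] a) = _
    have h1 : e.symm (Ideal.Quotient.mk _ 1) = Ideal.Quotient.mk (Ideal.span {f ^ n}) 1 := by
      rw [LinearEquiv.symm_apply_eq]
      exact (map_one _).trans (map_one (Ideal.quotientMap _ (algebraMap R R') Ideal.le_comap_map)).symm
    rw [h1, TensorProduct.quotTensorEquivQuotSMul_mk_tmul, one_smul]
  rw [h, map_smul] at hρ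
  obtain ⟨z, hz⟩ := Submodule.Quotient.mk_surjective _ (ρ x)
  rw [← hz, ← Submodule.Quotient.mk_smul, Submodule.Quotient.eq, Submodule.ideal_span_singleton_smul,
    Submodule.mem_smul_pointwise_iff_exists] at hρ
  obtain ⟨w, -, hw⟩ := hρ
  exact ⟨z - w, by rw [smul_sub, hw, sub_sub_cancel]⟩

theorem mkLinearMap_eq_zero {M : Type u} [AddCommGroup M] [Module R M] {m : M} :
    LocalizedModule.mkLinearMap (Submonoid.powers f) M m = 0 ↔ ∃ n : ℕ, f ^ n • m = 0 := by
  rw [IsLocalizedModule.eq_zero_iff (Submonoid.powers f)]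
  exact ⟨fun ⟨⟨_, n, rfl⟩, h⟩ => ⟨n, h⟩, fun ⟨n, h⟩ => ⟨⟨_, n, rfl⟩, h⟩⟩

theorem tensorOfLoc_mk {M : Type u} [AddCommGroup M] [Module R M] (m : M) :
    tensorOfLoc R R' f M (LocalizedModule.mkLinearMap (Submonoid.powers f) M m) =
      locOfTensor R R' f M ((1 : R') ⊗ₜ[R] m) :=
  IsLocalizedModule.map_apply (Submonoid.powers f) _ _ _ m

theorem isGlueable_iff (hq : QuotPowBijective R R' f) (M : Type u) [AddCommGroup M] [Module R M] :
    IsGlueable R R' f M ↔
      (∀ m : M, (∃ n : ℕ, f ^ n • m = 0) → (1 : R') ⊗ₜ[R] m = 0 → m = 0) ∧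
      (∀ x : R' ⊗[R] M, (∃ n : ℕ, f ^ n • x = 0) →
        ∃ m : M, (∃ n : ℕ, f ^ n • m = 0) ∧ (1 : R') ⊗ₜ[R] m = x) := by
  constructor
  · rintro ⟨hinj, hmid⟩
    refine ⟨fun m hm h => hinj (Prod.ext ?_ ?_), fun x hx => ?_⟩
    · exact h.trans (TensorProduct.tmul_zero _ _).symm
    · exact (mkLinearMap_eq_zero.2 hm).trans (map_zero _).symm
    · obtain ⟨m, hm, hm'⟩ := hmid x 0 ((mkLinearMap_eq_zero.2 hx).trans (map_zero _).symm)
      exact ⟨m, mkLinearMap_eq_zero.1 hm', hm⟩
  · rintro ⟨hinj, hsurj⟩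
    refine ⟨fun m m' h => ?_, fun x y hxy => ?_⟩
    · simp only [Prod.mk.injEq] at h
      exact sub_eq_zero.1 (hinj _ (mkLinearMap_eq_zero.1 (by rw [map_sub, h.2, sub_self]))
        (by rw [TensorProduct.tmul_sub, h.1, sub_self]))
    · obtain ⟨⟨m', ⟨_, n, rfl⟩⟩, hy⟩ :=
        IsLocalizedModule.surj (Submonoid.powers f) (LocalizedModule.mkLinearMap (Submonoid.powers f) M) y
      rw [Submonoid.smul_def] at hy
      have h1 : locOfTensor R R' f M (f ^ n • x - (1 : R') ⊗ₜ[R] m') = 0 := by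
        rw [map_sub, map_smul, hxy, ← map_smul, hy, tensorOfLoc_mk, sub_self]
      obtain ⟨j, hj⟩ := mkLinearMap_eq_zero.1 h1
      rw [smul_sub, smul_smul, ← pow_add, sub_eq_zero, ← TensorProduct.tmul_smul] at hj
      obtain ⟨m, hm⟩ := exists_eq_smul_of_tmul_eq hq hj.symm
      obtain ⟨t, ht, htx⟩ := hsurj (x - (1 : R') ⊗ₜ[R] m)
        ⟨j + n, by rw [smul_sub, ← TensorProduct.tmul_smul, ← hm, ← hj, sub_self]⟩
      refine ⟨m + t, by rw [TensorProduct.tmul_add, htx, add_sub_cancel], ?_⟩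
      rw [map_add, mkLinearMap_eq_zero.2 ht, add_zero]
      refine IsLocalizedModule.smul_injective (LocalizedModule.mkLinearMap (Submonoid.powers f) M)
        (⟨f ^ (j + n), j + n, rfl⟩ : Submonoid.powers f) ?_
      show f ^ (j + n) • LocalizedModule.mkLinearMap (Submonoid.powers f) M m = f ^ (j + n) • y
      rw [← map_smul, ← hm, map_smul, ← hy, smul_smul, ← pow_add]

theorem awayMap_zero_torsion (h : IsGlueingPair R R' f) {x : R'} {n : ℕ}
    (hx : algebraMap R R' f ^ n * x = 0) :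
    ∃ r : R, (∃ n : ℕ, f ^ n * r = 0) ∧ algebraMap R R' r = x := by
  have h0 : algebraMap R' (Localization.Away (algebraMap R R' f)) x = 0 :=
    (IsLocalization.map_eq_zero_iff (Submonoid.powers (algebraMap R R' f)) _ x).2 ⟨⟨_, n, rfl⟩, hx⟩
  obtain ⟨r, hr, hr'⟩ := h.2.2.1 x 0 (h0.trans (map_zero _).symm)
  obtain ⟨⟨_, j, rfl⟩, hj⟩ := (IsLocalization.map_eq_zero_iff (Submonoid.powers f) _ r).1 hr'
  exact ⟨r, ⟨j, hj⟩, hr⟩

theorem surjective_torsion (h : IsGlueingPair R R' f) (M : Type u) [AddCommGroup M] [Module R M]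
    (x : R' ⊗[R] M) (hx : ∃ n : ℕ, f ^ n • x = 0) :
    ∃ m : M, (∃ n : ℕ, f ^ n • m = 0) ∧ (1 : R') ⊗ₜ[R] m = x := by
  classical
  obtain ⟨n, hn⟩ := hx
  let π : (M →₀ R) →ₗ[R] M := Finsupp.linearCombination R id
  have hπ : Function.Surjective π := fun m => ⟨Finsupp.single m 1, by simp [π]⟩
  let K := LinearMap.ker π
  obtain ⟨xt, rfl⟩ := LinearMap.lTensor_surjective R' hπ x
  have hex0 : Function.Exact K.subtype π := fun y =>
    ⟨fun hy => ⟨⟨y, hy⟩, rfl⟩, fun ⟨z, hz⟩ => hz ▸ z.2⟩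
  have hex := lTensor_exact (M := K) R' (f := K.subtype) (g := π) hex0 hπ
  obtain ⟨κ, hκ⟩ := (hex (f ^ n • xt)).1 (by rw [map_smul, hn])
  obtain ⟨a, κ', hκ'⟩ := exists_decomp (M := K) h.1 n κ
  rw [hκ', map_add, map_smul, LinearMap.lTensor_tmul, ← eq_sub_iff_add_eq] at hκ
  replace hκ : (1 : R') ⊗ₜ[R] K.subtype a = f ^ n • (xt - K.subtype.lTensor R' κ') :=
    hκ.trans (smul_sub _ _ _).symm
  obtain ⟨b, hb⟩ := exists_eq_smul_of_tmul_eq h.1 hκ
  set z := xt - K.subtype.lTensor R' κ' - (1 : R') ⊗ₜ[R] b with hz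
  have hz0 : f ^ n • z = 0 := by
    rw [hz, smul_sub, ← hκ, ← TensorProduct.tmul_smul, ← hb, sub_self]
  let e := TensorProduct.finsuppScalarRight R R R' M
  have hcoord : ∀ i, ∃ r : R, (∃ n : ℕ, f ^ n * r = 0) ∧ algebraMap R R' r = e z i := fun i =>
    awayMap_zero_torsion h (n := n) (by
      have := congrArg (fun w => e w i) hz0
      simpa [Algebra.smul_def, map_pow] using this)
  choose r hr hri using hcoord
  let t : M →₀ R := Finsupp.onFinset (e z).support (fun i => if i ∈ (e z).support then r i else 0)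
    fun i hi => by
      by_contra hni
      simp [hni] at hi
  have ht : (1 : R') ⊗ₜ[R] t = z := e.injective <| Finsupp.ext fun i => by
    rw [TensorProduct.finsuppScalarRight_apply_tmul_apply]
    simp only [t, Finsupp.onFinset_apply, Algebra.smul_def, mul_one]
    split_ifs with hi
    · exact hri i
    · rw [map_zero, Finsupp.notMem_support_iff.1 hi]
  have htor : ∃ j : ℕ, f ^ j • t = 0 := by
    choose j hj using hr
    refine ⟨(e z).support.sup j, Finsupp.ext fun i => ?_⟩
    simp only [t, Finsupp.smul_apply, Finsupp.onFinset_apply, smul_eq_mul, Finsupp.coe_zero, Pi.zero_apply]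
    split_ifs with hi
    · rw [← Nat.sub_add_cancel (Finset.le_sup (f := j) hi), pow_add, mul_assoc, hj, mul_zero]
    · rw [mul_zero]
  obtain ⟨j, hj⟩ := htor
  refine ⟨π (b + t), ⟨j + n, ?_⟩, ?_⟩
  · rw [map_add, smul_add, pow_add, mul_smul, ← map_smul π, ← hb, show π (K.subtype a) = 0 from a.2, smul_zero,
      zero_add, mul_comm, mul_smul, ← map_smul π, hj, map_zero, smul_zero]
  · rw [← LinearMap.lTensor_tmul, TensorProduct.tmul_add, ht, hz, map_add, map_sub, map_sub,
      show π.lTensor R' (K.subtype.lTensor R' κ') = 0 from hex.apply_apply_eq_zero κ', sub_zero, add_sub_cancel]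

theorem isGlueable_iff_of_pair (h : IsGlueingPair R R' f) (M : Type u) [AddCommGroup M] [Module R M] :
    IsGlueable R R' f M ↔ ∀ m : M, (∃ n : ℕ, f ^ n • m = 0) → (1 : R') ⊗ₜ[R] m = 0 → m = 0 :=
  (isGlueable_iff h.1 M).trans (and_iff_left fun x hx => surjective_torsion h M x hx)

theorem awayMap_algebraMap (r : R) :
    Localization.awayMap (algebraMap R R') f (algebraMap R _ r) =
      algebraMap R' (Localization.Away (algebraMap R R' f)) (algebraMap R R' r) :=
  IsLocalization.map_eq _ r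

theorem isGlueingPair_iff (hq : QuotPowBijective R R' f) :
    IsGlueingPair R R' f ↔ ((∀ x : R, (∃ n : ℕ, f ^ n * x = 0) → algebraMap R R' x = 0 → x = 0) ∧
      (∀ x' : R', (∃ n : ℕ, algebraMap R R' f ^ n * x' = 0) →
        ∃ x : R, (∃ n : ℕ, f ^ n * x = 0) ∧ algebraMap R R' x = x')) := by
  constructor
  · intro h
    refine ⟨fun x ⟨n, hn⟩ hx => h.2.1 (Prod.ext ?_ ?_), fun x' ⟨n, hn⟩ => awayMap_zero_torsion h hn⟩
    · exact hx.trans (map_zero _).symm
    · exact ((IsLocalization.map_eq_zero_iff (Submonoid.powers f) _ x).2 ⟨⟨_, n, rfl⟩, hn⟩).trans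
        (map_zero _).symm
  · rintro ⟨hinj, hsurj⟩
    refine ⟨hq, fun r r' h => ?_, fun x y hxy => ?_, fun z => ?_⟩
    · simp only [Prod.mk.injEq] at h
      obtain ⟨⟨_, n, rfl⟩, hn⟩ := (IsLocalization.map_eq_zero_iff (Submonoid.powers f) (Localization.Away f) (r - r')).1
        (by rw [map_sub, h.2, sub_self])
      exact sub_eq_zero.1 (hinj _ ⟨n, hn⟩ (by rw [map_sub, h.1, sub_self]))
    · obtain ⟨⟨m', ⟨_, n, rfl⟩⟩, hy⟩ := IsLocalization.surj (Submonoid.powers f) y
      have h1 : algebraMap R' (Localization.Away (algebraMap R R' f))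
          (algebraMap R R' f ^ n * x - algebraMap R R' m') = 0 := by
        rw [map_sub, map_mul, hxy, ← map_pow (algebraMap R R'), ← awayMap_algebraMap, ← awayMap_algebraMap,
          ← map_mul, mul_comm, hy, sub_self]
      obtain ⟨⟨_, j, rfl⟩, hj⟩ := (IsLocalization.map_eq_zero_iff (Submonoid.powers (algebraMap R R' f)) _ _).1 h1
      have hj' : algebraMap R R' (f ^ j * m') = algebraMap R R' (f ^ (j + n)) * x := by
        rw [mul_sub, sub_eq_zero] at hj
        simpa [map_mul, map_pow, pow_add, mul_assoc] using hj.symm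
      obtain ⟨m, hm⟩ : ∃ m, f ^ j * m' = f ^ (j + n) * m := by
        rcases Nat.eq_zero_or_pos (j + n) with h0 | h0
        · exact ⟨f ^ j * m', by rw [h0]; simp⟩
        obtain ⟨c, hc⟩ := Ideal.mem_span_singleton'.1 (Ideal.Quotient.eq_zero_iff_mem.1 ((hq (j + n) h0).1
          (a₁ := Ideal.Quotient.mk _ (f ^ j * m')) (a₂ := 0) (by
            rw [map_zero, Ideal.quotientMap_mk, Ideal.Quotient.eq_zero_iff_mem, hj']
            exact Ideal.mul_mem_right _ _ (Ideal.mem_map_of_mem _ (Ideal.mem_span_singleton_self _)))))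
        exact ⟨c, by rw [← hc, mul_comm]⟩
      obtain ⟨t, ⟨i, hi⟩, htx⟩ := hsurj (x - algebraMap R R' m) ⟨j + n, by
        rw [mul_sub, ← map_pow, ← map_mul (algebraMap R R') _ m, ← hm, hj', sub_self]⟩
      refine ⟨m + t, by rw [map_add, htx, add_sub_cancel], ?_⟩
      rw [map_add, (IsLocalization.map_eq_zero_iff (Submonoid.powers f) (Localization.Away f) t).2 ⟨⟨_, i, rfl⟩, hi⟩,
        add_zero]
      refine (IsLocalization.map_units (Localization.Away f) (⟨f ^ (j + n), j + n, rfl⟩ : Submonoid.powers f)).mul_left_cancel ?_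
      show algebraMap R _ (f ^ (j + n)) * algebraMap R _ m = algebraMap R _ (f ^ (j + n)) * y
      rw [← map_mul, ← hm, map_mul, ← hy, pow_add, map_mul]
      ring
    · obtain ⟨⟨x, ⟨_, n, rfl⟩⟩, hz⟩ := IsLocalization.surj (Submonoid.powers (algebraMap R R' f)) z
      obtain ⟨s, x', rfl⟩ := exists_ring_decomp hq n x
      refine ⟨x', -IsLocalization.mk' _ s (⟨f ^ n, n, rfl⟩ : Submonoid.powers f), ?_⟩
      refine (IsLocalization.map_units (Localization.Away (algebraMap R R' f))
        (⟨_, n, rfl⟩ : Submonoid.powers (algebraMap R R' f))).mul_right_cancel ?_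
      refine Eq.trans ?_ hz.symm
      have hmk := congrArg (Localization.awayMap (algebraMap R R') f)
        (IsLocalization.mk'_spec (Localization.Away f) s (⟨f ^ n, n, rfl⟩ : Submonoid.powers f))
      rw [map_mul, awayMap_algebraMap, awayMap_algebraMap, map_pow] at hmk
      show _ * algebraMap R' _ (algebraMap R R' f ^ n) = algebraMap R' _ (algebraMap R R' s + _)
      rw [map_neg, sub_neg_eq_add, add_mul, map_add, map_mul, hmk]
      ring

theorem existsUnique_hom (M N : Type u) [AddCommGroup M] [Module R M] [AddCommGroup N] [Module R N]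
    (hN : IsGlueable R R' f N) (φ' : R' ⊗[R] M →ₗ[R'] R' ⊗[R] N)
    (φ₁ : LocalizedModule (Submonoid.powers f) M →ₗ[R] LocalizedModule (Submonoid.powers f) N)
    (hc : ∀ m : M, locOfTensor R R' f N (φ' ((1 : R') ⊗ₜ[R] m)) =
      tensorOfLoc R R' f N (φ₁ (LocalizedModule.mkLinearMap (Submonoid.powers f) M m))) :
    ∃! ψ : M →ₗ[R] N, ψ.baseChange R' = φ' ∧
      IsLocalizedModule.map (Submonoid.powers f) (LocalizedModule.mkLinearMap (Submonoid.powers f) M)
        (LocalizedModule.mkLinearMap (Submonoid.powers f) N) ψ = φ₁ := by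
  choose g hg hg' using fun m => hN.2 _ _ (hc m)
  obtain ⟨ψ, hψ, hψ'⟩ : ∃ ψ : M →ₗ[R] N, (∀ m, (1 : R') ⊗ₜ[R] ψ m = φ' ((1 : R') ⊗ₜ[R] m)) ∧
      ∀ m, LocalizedModule.mkLinearMap (Submonoid.powers f) N (ψ m) =
        φ₁ (LocalizedModule.mkLinearMap (Submonoid.powers f) M m) :=
    ⟨{ toFun := g
       map_add' := fun a b => hN.1 (Prod.ext
        (by simp only [TensorProduct.tmul_add, hg, map_add]) (by simp only [map_add, hg']))
       map_smul' := fun r a => hN.1 (Prod.ext
        (by simp only [RingHom.id_apply, TensorProduct.tmul_smul, hg, LinearMap.map_smul_of_tower])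
        (by simp only [RingHom.id_apply, map_smul, hg'])) }, hg, hg'⟩
  refine ⟨ψ, ⟨?_, ?_⟩, fun χ hχ => LinearMap.ext fun m => hN.1 (Prod.ext ?_ ?_)⟩
  · refine TensorProduct.AlgebraTensorModule.ext fun r m => ?_
    rw [LinearMap.baseChange_tmul, show r ⊗ₜ[R] m = r • ((1 : R') ⊗ₜ[R] m) by
        rw [TensorProduct.smul_tmul', smul_eq_mul, mul_one],
      map_smul, ← hψ, TensorProduct.smul_tmul', smul_eq_mul, mul_one]
  · refine IsLocalizedModule.ext (Submonoid.powers f) (LocalizedModule.mkLinearMap (Submonoid.powers f) M)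
      (IsLocalizedModule.map_units (LocalizedModule.mkLinearMap (Submonoid.powers f) N))
      (LinearMap.ext fun m => ?_)
    rw [LinearMap.comp_apply, LinearMap.comp_apply, IsLocalizedModule.map_apply]
    exact hψ' m
  · show (1 : R') ⊗ₜ[R] χ m = (1 : R') ⊗ₜ[R] ψ m
    rw [hψ, ← hχ.1, LinearMap.baseChange_tmul]
  · show LocalizedModule.mkLinearMap (Submonoid.powers f) N (χ m) =
      LocalizedModule.mkLinearMap (Submonoid.powers f) N (ψ m)
    rw [hψ', ← hχ.2, IsLocalizedModule.map_apply]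

section Pullback

variable (h : IsGlueingPair R R' f) {M M' M₁ : Type u} [AddCommGroup M] [Module R M]
  [AddCommGroup M'] [Module R' M'] [Module R M'] [IsScalarTower R R' M'] [AddCommGroup M₁] [Module R M₁]
  (hf : Function.Bijective fun x : M₁ => f • x)
  (β : M' →ₗ[R'] R' ⊗[R] M₁) (hβs : ∀ z, ∃ (n : ℕ) (x : M'), f ^ n • z = β x)
  (hβk : ∀ x, β x = 0 → ∃ n : ℕ, f ^ n • x = 0)
  (p : M →ₗ[R] M') (q : M →ₗ[R] M₁)
  (hinj : ∀ m, p m = 0 → q m = 0 → m = 0)
  (hrange : ∀ m, β (p m) = (1 : R') ⊗ₜ[R] q m)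
  (hlift : ∀ x y, β x = (1 : R') ⊗ₜ[R] y → ∃ m, p m = x ∧ q m = y)

theorem pow_smul_bijective {M₁ : Type u} [AddCommGroup M₁] [Module R M₁]
    (hf : Function.Bijective fun x : M₁ => f • x) : ∀ n : ℕ, Function.Bijective fun x : M₁ => f ^ n • x
  | 0 => by simp only [pow_zero, one_smul]; exact Function.bijective_id
  | n + 1 => by
    have := (pow_smul_bijective hf n).comp hf
    simpa [Function.comp_def, pow_succ, mul_smul] using this

include hf in
theorem tensor_pow_smul_injective (n : ℕ) : Function.Injective fun z : R' ⊗[R] M₁ => f ^ n • z := by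
  let e := LinearEquiv.ofBijective (LinearMap.lsmul R M₁ (f ^ n)) (pow_smul_bijective hf n)
  intro a b hab
  refine (LinearEquiv.lTensor R' e).injective ?_
  have key : ∀ z : R' ⊗[R] M₁, LinearEquiv.lTensor R' e z = f ^ n • z := fun z => by
    induction z using TensorProduct.induction_on with
    | zero => simp
    | tmul r y =>
      show r ⊗ₜ[R] (f ^ n • y) = _
      rw [TensorProduct.tmul_smul]
    | add a b ha hb => rw [map_add, ha, hb, smul_add]
  rw [key, key]
  exact hab

omit [IsScalarTower R R' M'] in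
include hf hβs hβk hlift hinj hrange in
theorem snd_isLocalizedModule : IsLocalizedModule (Submonoid.powers f) q where
  map_units := by
    rintro ⟨_, n, rfl⟩
    exact (Module.End.isUnit_iff _).2 (pow_smul_bijective hf n)
  surj y := by
    obtain ⟨n, x, hx⟩ := hβs ((1 : R') ⊗ₜ[R] y)
    obtain ⟨m, -, hm⟩ := hlift x (f ^ n • y) (by rw [← hx, TensorProduct.tmul_smul])
    exact ⟨⟨m, ⟨f ^ n, n, rfl⟩⟩, hm.symm⟩
  exists_of_eq {m m'} hmm := by
    obtain ⟨n, hn⟩ := hβk (p (m - m')) (by rw [hrange, map_sub, hmm, sub_self, TensorProduct.tmul_zero])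
    refine ⟨⟨f ^ n, n, rfl⟩, sub_eq_zero.1 ?_⟩
    rw [← smul_sub]
    exact hinj _ ((p.map_smul _ _).trans hn) ((q.map_smul _ _).trans (by rw [map_sub, hmm, sub_self, smul_zero]))

/-- The comparison map `R' ⊗ M → M'`. -/
noncomputable def fstBaseChange : R' ⊗[R] M →ₗ[R'] M' := p.liftBaseChange R'

theorem fstBaseChange_one_tmul (m : M) : fstBaseChange p ((1 : R') ⊗ₜ[R] m) = p m := by
  rw [fstBaseChange, LinearMap.liftBaseChange_tmul, one_smul]

include hrange in
theorem β_fstBaseChange (w : R' ⊗[R] M) : β (fstBaseChange p w) = q.lTensor R' w := by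
  induction w using TensorProduct.induction_on with
  | zero => simp
  | tmul r m =>
    rw [fstBaseChange, LinearMap.liftBaseChange_tmul, map_smul, hrange, LinearMap.lTensor_tmul,
      TensorProduct.smul_tmul', smul_eq_mul, mul_one]
  | add a b ha hb => rw [map_add, map_add, map_add, ha, hb]

include hf in
theorem eq_zero_of_pow_smul {y : M₁} {n : ℕ} (hy : f ^ n • y = 0) : y = 0 :=
  (pow_smul_bijective hf n).1 (hy.trans (smul_zero _).symm)

include h hf hinj in
theorem isGlueable : IsGlueable R R' f M := by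
  refine (isGlueable_iff_of_pair h M).2 fun m ⟨n, hn⟩ hm => hinj m ?_ ?_
  · rw [← fstBaseChange_one_tmul (R' := R') p, hm, map_zero]
  · exact eq_zero_of_pow_smul hf (n := n) (by rw [← map_smul, hn, map_zero])

include h hf hβs hβk hlift hinj hrange in
theorem fstBaseChange_bijective : Function.Bijective (fstBaseChange (R' := R') p) := by
  haveI := snd_isLocalizedModule hf β hβs hβk p q hinj hrange hlift
  haveI : IsLocalizedModule (Submonoid.powers f) (q.lTensor R') := by
    rw [show q.lTensor R' = (TensorProduct.comm R M₁ R').toLinearMap ∘ₗ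
      (TensorProduct.AlgebraTensorModule.rTensor R R' q) ∘ₗ (TensorProduct.comm R R' M).toLinearMap from
        TensorProduct.ext' fun r m => rfl]
    infer_instance
  refine ⟨(injective_iff_map_eq_zero _).2 fun x hx => ?_, fun x' => ?_⟩
  · have h0 : q.lTensor R' x = 0 := by rw [← β_fstBaseChange β p q hrange, hx, map_zero]
    obtain ⟨⟨_, n, rfl⟩, hn⟩ := (IsLocalizedModule.eq_zero_iff (Submonoid.powers f) (q.lTensor R')).1 h0
    obtain ⟨m, ⟨j, hj⟩, rfl⟩ := surjective_torsion h M x ⟨n, hn⟩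
    rw [hinj m (by rwa [fstBaseChange_one_tmul] at hx) (eq_zero_of_pow_smul hf (n := j) (by
      rw [← map_smul, hj, map_zero])), TensorProduct.tmul_zero]
  · obtain ⟨⟨w, ⟨_, n, rfl⟩⟩, hw⟩ := IsLocalizedModule.surj (Submonoid.powers f) (q.lTensor R') (β x')
    rw [Submonoid.smul_def, ← β_fstBaseChange β p q hrange] at hw
    obtain ⟨k, hk⟩ := hβk (f ^ n • x' - fstBaseChange p w) (by
      rw [map_sub, LinearMap.map_smul_of_tower]
      exact sub_eq_zero.2 hw)
    rw [smul_sub, smul_smul, ← pow_add, sub_eq_zero, ← LinearMap.map_smul_of_tower] at hk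
    obtain ⟨m, w', hw'⟩ := exists_decomp h.1 (k + n) (f ^ k • w)
    rw [hw', map_add, LinearMap.map_smul_of_tower, fstBaseChange_one_tmul, ← sub_eq_iff_eq_add, ← smul_sub] at hk
    obtain ⟨y, hy⟩ := (pow_smul_bijective hf (k + n)).2 (q m)
    have hu : β (x' - fstBaseChange p w') = (1 : R') ⊗ₜ[R] y := by
      refine tensor_pow_smul_injective hf (k + n) ?_
      show f ^ (k + n) • β _ = f ^ (k + n) • _
      rw [← LinearMap.map_smul_of_tower, hk, hrange, ← TensorProduct.tmul_smul]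
      exact congrArg _ hy.symm
    obtain ⟨m', hm', -⟩ := hlift _ _ hu
    exact ⟨(1 : R') ⊗ₜ[R] m' + w', by rw [map_add, fstBaseChange_one_tmul, hm', sub_add_cancel]⟩

end Pullback

end Groth.Agent.EtGlueLib
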