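import Groth.Agent.S12205
import Groth.Agent.EtGlueLib.Basic
import Groth.Prelude.Def_DRing2

/-!
Glueing pairs: `Tor_1(R', N) = 0` for modules with torsion first syzygy and for torsion modules.
-/

namespace Groth.Agent.EtGlueLib

universe u

open TensorProduct EtGlue CategoryTheory

variable {R R' : Type u} [CommRing R] [CommRing R'] [Algebra R R'] {f : R}

theorem torsion_eq_zero (h : IsGlueingPair R R' f) {r : R} {n : ℕ} (hr : f ^ n * r = 0)
    (h0 : algebraMap R R' r = 0) : r = 0 := by
  refine h.2.1 (Prod.ext (h0.trans (map_zero _).symm) ?_)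
  show algebraMap R (Localization.Away f) r = algebraMap R (Localization.Away f) 0
  rw [map_zero]
  exact (IsLocalization.map_eq_zero_iff (Submonoid.powers f) (Localization.Away f) r).2
    ⟨⟨f ^ n, n, rfl⟩, hr⟩

/-- injectivity for one projective presentation gives it for every other one -/
theorem injective_transfer {N F₀ F : Type u} [AddCommGroup N] [Module R N] [AddCommGroup F₀] [Module R F₀]
    [AddCommGroup F] [Module R F] [Module.Projective R F] [Module.Projective R F₀]
    (π₀ : F₀ →ₗ[R] N) (h₀ : Function.Surjective π₀)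
    (hinj : Function.Injective ((LinearMap.ker π₀).subtype.lTensor R'))
    (π : F →ₗ[R] N) (hπ : Function.Surjective π) :
    Function.Injective ((LinearMap.ker π).subtype.lTensor R') := by
  obtain ⟨h, hh⟩ := Module.projective_lifting_property π₀ π h₀
  obtain ⟨l, hl⟩ := Module.projective_lifting_property π π₀ hπ
  let hK : LinearMap.ker π →ₗ[R] LinearMap.ker π₀ := (h ∘ₗ (LinearMap.ker π).subtype).codRestrict _
    fun x => LinearMap.mem_ker.2 ((LinearMap.congr_fun hh x.1).trans x.2)
  let lK : LinearMap.ker π₀ →ₗ[R] LinearMap.ker π := (l ∘ₗ (LinearMap.ker π₀).subtype).codRestrict _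
    fun x => LinearMap.mem_ker.2 ((LinearMap.congr_fun hl x.1).trans x.2)
  let d : F →ₗ[R] LinearMap.ker π := (LinearMap.id - l ∘ₗ h).codRestrict _ fun v => LinearMap.mem_ker.2 (by
    show π (v - l (h v)) = 0
    rw [map_sub, ← LinearMap.comp_apply, hl, ← LinearMap.comp_apply, hh, sub_self])
  have hid : d ∘ₗ (LinearMap.ker π).subtype + lK ∘ₗ hK = LinearMap.id :=
    LinearMap.ext fun x => Subtype.ext (by simp [d, lK, hK])
  rw [← LinearMap.ker_eq_bot, LinearMap.ker_eq_bot']
  intro x hx
  have h1 : hK.lTensor R' x = 0 := by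
    refine hinj ?_
    rw [map_zero, ← LinearMap.comp_apply, ← LinearMap.lTensor_comp,
      show (LinearMap.ker π₀).subtype ∘ₗ hK = h ∘ₗ (LinearMap.ker π).subtype from rfl,
      LinearMap.lTensor_comp, LinearMap.comp_apply, hx, map_zero]
  calc x = (d ∘ₗ (LinearMap.ker π).subtype + lK ∘ₗ hK).lTensor R' x := by
        rw [hid, LinearMap.lTensor_id]; rfl
    _ = 0 := by simp [LinearMap.lTensor_add, LinearMap.lTensor_comp, hx, h1]

theorem subsingleton_tor {N F₀ : Type u} [AddCommGroup N] [Module R N] [AddCommGroup F₀] [Module R F₀]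
    [Module.Projective R F₀] (π₀ : F₀ →ₗ[R] N) (h₀ : Function.Surjective π₀)
    (hinj : Function.Injective ((LinearMap.ker π₀).subtype.lTensor R')) :
    Subsingleton (DRing.Tor R 1 R' N) := by
  obtain ⟨F, _, _, π, hF, hπ, hiff⟩ := Groth.Agent.S12205.exists_presentation (R := R) (M := N)
  exact ModuleCat.subsingleton_of_isZero ((hiff R').2 (injective_transfer π₀ h₀ hinj π hπ))

/-- submodules of `R` consisting of torsion elements -/
theorem injective_lTensor_subtype (h : IsGlueingPair R R' f) (T : Submodule R R)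
    (hT : ∀ t ∈ T, ∃ n : ℕ, f ^ n * t = 0) : Function.Injective (T.subtype.lTensor R') := by
  have hs : ∀ x : R' ⊗[R] T, ∃ t : T, (1 : R') ⊗ₜ[R] t = x := by
    intro x
    induction x using TensorProduct.induction_on with
    | zero => exact ⟨0, by simp⟩
    | tmul r t =>
      obtain ⟨n, hn⟩ := hT t t.2
      obtain ⟨s, r', rfl⟩ := exists_ring_decomp h.1 n r
      refine ⟨s • t, ?_⟩
      rw [TensorProduct.add_tmul, ← TensorProduct.smul_tmul, ← Algebra.algebraMap_eq_smul_one,
        ← map_pow, ← Algebra.smul_def, TensorProduct.smul_tmul (f ^ n) r']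
      rw [show f ^ n • t = 0 from Subtype.ext hn, TensorProduct.tmul_zero, add_zero]
    | add a b ha hb =>
      obtain ⟨t, rfl⟩ := ha
      obtain ⟨t', rfl⟩ := hb
      exact ⟨t + t', TensorProduct.tmul_add _ _ _⟩
  rw [← LinearMap.ker_eq_bot, LinearMap.ker_eq_bot']
  intro x hx
  obtain ⟨t, rfl⟩ := hs x
  obtain ⟨n, hn⟩ := hT t t.2
  have h0 : algebraMap R R' t = 0 := by
    have := congrArg (TensorProduct.rid R R') hx
    simpa [← Algebra.algebraMap_eq_smul_one] using this
  rw [show t = 0 from Subtype.ext (torsion_eq_zero h hn h0), TensorProduct.tmul_zero]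

theorem torsion_free_lift (h : IsGlueingPair R R' f) {ι : Type u} [Finite ι] (n : ℕ)
    (y : R' ⊗[R] (ι → R)) (hy : f ^ n • y = 0) :
    ∃ t : ι → R, f ^ n • t = 0 ∧ (1 : R') ⊗ₜ[R] t = y := by
  classical
  cases nonempty_fintype ι
  let e := TensorProduct.piScalarRight R R R' ι
  have hc : ∀ i, ∃ t : R, f ^ n * t = 0 ∧ algebraMap R R' t = e y i := fun i => by
    have hi : algebraMap R R' f ^ n * e y i = 0 := by
      rw [← map_pow, ← Algebra.smul_def, ← Pi.smul_apply, ← map_smul, hy, map_zero, Pi.zero_apply]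
    obtain ⟨t, ⟨m, hm⟩, ht⟩ := awayMap_zero_torsion h hi
    refine ⟨t, torsion_eq_zero h (n := m) (by rw [mul_left_comm, hm, mul_zero]) ?_, ht⟩
    rw [map_mul, map_pow, ht, hi]
  choose t ht hte using hc
  refine ⟨t, funext ht, e.injective (funext fun i => ?_)⟩
  rw [← hte i]
  simp [e, Algebra.algebraMap_eq_smul_one]

/-- a finite free presentation of a module killed by `f ^ n` -/
theorem ker_killed (h : IsGlueingPair R R' f) {ι N : Type u} [Finite ι] [AddCommGroup N] [Module R N]
    (π : (ι → R) →ₗ[R] N) (n : ℕ) (hN : ∀ v : N, f ^ n • v = 0) (x : R' ⊗[R] LinearMap.ker π)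
    (hx : (LinearMap.ker π).subtype.lTensor R' x = 0) : x = 0 := by
  let μ : (ι → R) →ₗ[R] LinearMap.ker π := (f ^ n • LinearMap.id).codRestrict _ fun v =>
    LinearMap.mem_ker.2 (by simpa using hN (π v))
  have hkill : ∀ z : R' ⊗[R] LinearMap.ker π, (LinearMap.ker π).subtype.lTensor R' z = 0 →
      f ^ n • z = 0 := fun z hz => by
    have hμ : μ ∘ₗ (LinearMap.ker π).subtype = f ^ n • LinearMap.id :=
      LinearMap.ext fun v => Subtype.ext rfl
    have := congrArg (μ.lTensor R') hz
    rwa [← LinearMap.comp_apply, ← LinearMap.lTensor_comp, hμ, LinearMap.lTensor_smul,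
      LinearMap.lTensor_id, map_zero] at this
  obtain ⟨k, y, rfl⟩ := exists_decomp h.1 n x
  rw [map_add, map_smul, LinearMap.lTensor_tmul, add_eq_zero_iff_eq_neg] at hx
  obtain ⟨b, hb⟩ := exists_eq_smul_of_tmul_eq h.1 (hx.trans (smul_neg (f ^ n) _).symm)
  obtain ⟨t, ht, hte⟩ := torsion_free_lift h n
    ((1 : R') ⊗ₜ[R] b + (LinearMap.ker π).subtype.lTensor R' y) (by
      rw [smul_add, ← TensorProduct.tmul_smul, ← hb, hx, neg_add_cancel])
  have hπy : π.lTensor R' ((LinearMap.ker π).subtype.lTensor R' y) = 0 := by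
    rw [← LinearMap.comp_apply, ← LinearMap.lTensor_comp, LinearMap.comp_ker_subtype,
      LinearMap.lTensor_zero, LinearMap.zero_apply]
  have hbt : π (b - t) = 0 := by
    obtain ⟨c, hc⟩ := exists_eq_smul_of_tmul_eq h.1 (n := n) (a := π (b - t)) (x := 0) (by
      rw [smul_zero, map_sub, TensorProduct.tmul_sub]
      have := congrArg (π.lTensor R') hte
      rw [map_add, LinearMap.lTensor_tmul, LinearMap.lTensor_tmul, hπy, add_zero] at this
      rw [this, sub_self])
    rw [hc, hN]
  let k' : LinearMap.ker π := ⟨b - t, hbt⟩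
  have hk : k = f ^ n • k' := Subtype.ext (by
    show (k : ι → R) = f ^ n • (b - t)
    rw [smul_sub, ht, sub_zero]; exact hb)
  rw [hk, TensorProduct.tmul_smul, ← smul_add]
  refine hkill _ ?_
  rw [map_add, LinearMap.lTensor_tmul]
  show (1 : R') ⊗ₜ[R] (b - t) + _ = (0 : R' ⊗[R] (ι → R))
  rw [TensorProduct.tmul_sub, hte]
  abel

/-- `Tor_1(R', N) = 0` for torsion `N` -/
theorem subsingleton_tor_torsion (h : IsGlueingPair R R' f) (N : Type u) [AddCommGroup N] [Module R N]
    (hN : ∀ v : N, ∃ n : ℕ, f ^ n • v = 0) : Subsingleton (DRing.Tor R 1 R' N) := by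
  classical
  refine subsingleton_tor (Finsupp.linearCombination R (id : N → N))
    (Finsupp.linearCombination_id_surjective R N) ?_
  let π := Finsupp.linearCombination R (id : N → N)
  show Function.Injective ((LinearMap.ker π).subtype.lTensor R')
  rw [← LinearMap.ker_eq_bot, LinearMap.ker_eq_bot']
  intro x hx
  obtain ⟨S, rfl⟩ := TensorProduct.exists_finset x
  let s : Finset N := S.sup fun p => (p.2 : N →₀ R).support
  choose m hm using hN
  let n := s.sup m
  let N₀ := Submodule.torsionBy R N (f ^ n)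
  have hn : ∀ i : s, (i : N) ∈ N₀ := fun i => by
    show (i : N) ∈ Submodule.torsionBy R N (f ^ s.sup m)
    rw [Submodule.mem_torsionBy_iff, ← Nat.sub_add_cancel (Finset.le_sup (f := m) i.2), pow_add,
      mul_smul, hm, smul_zero]
  let π₀ : (s → R) →ₗ[R] N₀ := Fintype.linearCombination R fun i => ⟨i, hn i⟩
  let e : (s → R) →ₗ[R] (N →₀ R) := Fintype.linearCombination R fun i => Finsupp.single (i : N) 1
  let r : (N →₀ R) →ₗ[R] (s → R) := LinearMap.pi fun i => Finsupp.lapply (i : N)
  have he : π ∘ₗ e = N₀.subtype ∘ₗ π₀ := by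
    refine LinearMap.ext fun v => ?_
    simp [π, π₀, e, Fintype.linearCombination_apply]
  let eK : LinearMap.ker π₀ →ₗ[R] LinearMap.ker π := (e ∘ₗ (LinearMap.ker π₀).subtype).codRestrict _
    fun v => LinearMap.mem_ker.2 ((LinearMap.congr_fun he v.1).trans (by simp [LinearMap.mem_ker.1 v.2]))
  have her : ∀ p ∈ S, e (r (p.2 : N →₀ R)) = (p.2 : N →₀ R) := fun p hp => by
    have hsub : (p.2 : N →₀ R).support ⊆ s := Finset.le_sup (f := fun p => (p.2 : N →₀ R).support) hp
    simp only [e, r, Fintype.linearCombination_apply, LinearMap.pi_apply, Finsupp.lapply_apply,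
      Finsupp.smul_single, smul_eq_mul, mul_one]
    rw [Finset.sum_coe_sort s fun i => Finsupp.single i ((p.2 : N →₀ R) i),
      ← Finset.sum_subset hsub fun i _ hi => by simp [Finsupp.notMem_support_iff.1 hi]]
    exact (p.2 : N →₀ R).sum_single
  have hmem : ∀ p : S, r (p.1.2 : N →₀ R) ∈ LinearMap.ker π₀ := fun p => LinearMap.mem_ker.2 <|
    Subtype.ext <| by
      have := LinearMap.congr_fun he (r (p.1.2 : N →₀ R))
      simp only [LinearMap.comp_apply, her _ p.2] at this
      exact this.symm.trans (LinearMap.mem_ker.1 p.1.2.2)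
  let x₀ : R' ⊗[R] LinearMap.ker π₀ := ∑ p : S, p.1.1 ⊗ₜ[R] ⟨_, hmem p⟩
  have h0 : x₀ = 0 := by
    refine ker_killed h π₀ n (fun v => Subtype.ext v.2) x₀ ?_
    have := congrArg (r.lTensor R') hx
    rw [map_sum, map_sum, map_zero] at this
    rw [map_sum, ← this, ← Finset.sum_coe_sort S]
    rfl
  rw [← Finset.sum_coe_sort S]
  calc ∑ p : S, p.1.1 ⊗ₜ[R] p.1.2 = eK.lTensor R' x₀ := by
        rw [map_sum]
        refine Finset.sum_congr rfl fun p _ => ?_
        rw [LinearMap.lTensor_tmul]
        congr 1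
        exact Subtype.ext (her _ p.2).symm
    _ = 0 := by rw [h0, map_zero]

end Groth.Agent.EtGlueLib
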