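import Groth.Agent.EtGlueLib.Finite
import Groth.Agent.EtMilLib.Alg

/-!
Glueing pairs: algebra properties descend along `R → R' × R_f`, and glueable algebras give glueing pairs.
-/

set_option autoImplicit false
set_option linter.style.haveILetI false

namespace Groth.Agent.EtGlueLib

universe u

open TensorProduct EtGlue

variable {R R' : Type u} [CommRing R] [CommRing R'] [Algebra R R'] {f : R}

attribute [local instance] Algebra.TensorProduct.rightAlgebra in
/-- A glueable algebra gives a glueing pair `A → R' ⊗ A`. -/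
theorem pair_of_glueable (h : IsGlueingPair R R' f) (A : Type u) [CommRing A] [Algebra R A]
    (hA : IsGlueable R R' f A) : IsGlueingPair A (R' ⊗[R] A) (algebraMap R A f) := by
  obtain ⟨hinj, hsurj⟩ := (isGlueable_iff h.1 A).1 hA
  have hmul : ∀ (n : ℕ) (x : R' ⊗[R] A), algebraMap A (R' ⊗[R] A) (algebraMap R A f ^ n) * x = f ^ n • x := by
    intro n x
    rw [← map_pow, ← IsScalarTower.algebraMap_apply, ← Algebra.smul_def]
  have hq : QuotPowBijective A (R' ⊗[R] A) (algebraMap R A f) := by
    intro n hn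
    refine ⟨(injective_iff_map_eq_zero _).2 fun z hz => ?_, fun z => ?_⟩
    · obtain ⟨a, rfl⟩ := Ideal.Quotient.mk_surjective z
      rw [Ideal.quotientMap_mk, Ideal.Quotient.eq_zero_iff_mem, Ideal.map_span, Set.image_singleton,
        Ideal.mem_span_singleton'] at hz
      obtain ⟨c, hc⟩ := hz
      rw [mul_comm, hmul] at hc
      obtain ⟨b, hb⟩ := exists_eq_smul_of_tmul_eq h.1 (n := n) (a := a) (x := c) hc.symm
      rw [Ideal.Quotient.eq_zero_iff_mem, Ideal.mem_span_singleton']
      exact ⟨b, by rw [hb, Algebra.smul_def, map_pow, mul_comm]⟩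
    · obtain ⟨x, rfl⟩ := Ideal.Quotient.mk_surjective z
      obtain ⟨a, x', hx⟩ := exists_decomp h.1 n x
      refine ⟨Ideal.Quotient.mk _ a, ?_⟩
      rw [Ideal.quotientMap_mk, Ideal.Quotient.eq, Ideal.map_span, Set.image_singleton, Ideal.mem_span_singleton']
      refine ⟨-x', ?_⟩
      rw [neg_mul, mul_comm, hmul, hx]
      show -(f ^ n • x') = (1 : R') ⊗ₜ[R] a - ((1 : R') ⊗ₜ[R] a + f ^ n • x')
      abel
  refine (isGlueingPair_iff hq).2 ⟨fun x ⟨n, hn⟩ hx => hinj x ⟨n, ?_⟩ hx, fun x ⟨n, hn⟩ => ?_⟩
  · rw [Algebra.smul_def, map_pow]; exact hn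
  · rw [← map_pow, hmul] at hn
    obtain ⟨a, ⟨k, hk⟩, hax⟩ := hsurj x ⟨n, hn⟩
    exact ⟨a, ⟨k, by rw [← map_pow, ← Algebra.smul_def]; exact hk⟩, hax⟩

variable (h : IsGlueingPair R R' f) (E : Type u) [CommRing E] [Algebra R E]

include h

/-- Surjectivity descends along a glueing pair. -/
theorem surjective (h1 : Function.Surjective (algebraMap R' (R' ⊗[R] E)))
    (h2 : Function.Surjective (algebraMap (Localization.Away f) (Localization.Away f ⊗[R] E))) :
    Function.Surjective (algebraMap R E) := by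
  let N := LinearMap.range (Algebra.linearMap R E)
  have h1E : (1 : E) ∈ N := ⟨1, map_one (algebraMap R E)⟩
  have hsub : ∀ (S : Type u) [CommRing S] [Algebra R S], Function.Surjective (algebraMap S (S ⊗[R] E)) →
      Subsingleton (S ⊗[R] (E ⧸ N)) := fun S _ _ hS => subsingleton_quot_of_span R S (eq_top_iff.2 fun y _ => by
    obtain ⟨s, rfl⟩ := hS y
    rw [show algebraMap S (S ⊗[R] E) s = s • ((1 : S) ⊗ₜ[R] (1 : E)) by rw [smul_tmul', smul_eq_mul, mul_one]; rfl]
    exact Submodule.smul_mem _ _ (Submodule.subset_span (Set.mem_image_of_mem _ h1E)))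
  haveI := hsub R' h1
  haveI := hsub _ h2
  haveI := subsingleton_of_both h (E ⧸ N)
  exact fun e => (Submodule.Quotient.mk_eq_zero N).1 (Subsingleton.elim (Submodule.Quotient.mk e) 0)

/-- Finite type descends along a glueing pair. -/
theorem finiteType [Algebra.FiniteType R' (R' ⊗[R] E)]
    [Algebra.FiniteType (Localization.Away f) (Localization.Away f ⊗[R] E)] : Algebra.FiniteType R E := by
  classical
  obtain ⟨t₁, h₁⟩ := EtMilLib.exists_finset_adjoin R R' (E := E)
  obtain ⟨t₂, h₂⟩ := EtMilLib.exists_finset_adjoin R (Localization.Away f) (E := E)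
  set T := Algebra.adjoin R ((t₁ ∪ t₂ : Finset E) : Set E)
  haveI : Subsingleton (R' ⊗[R] (E ⧸ Subalgebra.toSubmodule T)) := EtMilLib.subsingleton_quot R R'
    (eq_top_iff.2 (h₁ ▸ Algebra.adjoin_mono (Set.image_mono fun e he =>
      Algebra.subset_adjoin (Finset.coe_subset.2 Finset.subset_union_left he))))
  haveI : Subsingleton (Localization.Away f ⊗[R] (E ⧸ Subalgebra.toSubmodule T)) :=
    EtMilLib.subsingleton_quot R (Localization.Away f)
      (eq_top_iff.2 (h₂ ▸ Algebra.adjoin_mono (Set.image_mono fun e he =>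
        Algebra.subset_adjoin (Finset.coe_subset.2 Finset.subset_union_right he))))
  haveI := subsingleton_of_both h (E ⧸ Subalgebra.toSubmodule T)
  exact ⟨⟨t₁ ∪ t₂, eq_top_iff.2 fun e _ => (Submodule.Quotient.mk_eq_zero _).1
    (Subsingleton.elim (Submodule.Quotient.mk (p := Subalgebra.toSubmodule T) e) 0)⟩⟩

/-- Flatness of an algebra descends along a glueing pair. -/
theorem flat_alg [Module.Flat R' (R' ⊗[R] E)]
    [Module.Flat (Localization.Away f) (Localization.Away f ⊗[R] E)] : Module.Flat R E := by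
  haveI : Module.Flat (Localization.Away f) (LocalizedModule (Submonoid.powers f) E) :=
    Module.Flat.of_linearEquiv (LocalizedModule.equivTensorProduct (Submonoid.powers f) E)
  exact flat h E

/-- Flatness with finite presentation descends along a glueing pair. -/
theorem finitePresentation_alg [Module.Flat R' (R' ⊗[R] E)] [Algebra.FinitePresentation R' (R' ⊗[R] E)]
    [Module.Flat (Localization.Away f) (Localization.Away f ⊗[R] E)]
    [Algebra.FinitePresentation (Localization.Away f) (Localization.Away f ⊗[R] E)] :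
    Algebra.FinitePresentation R E := by
  classical
  haveI : Module.Flat R E := flat_alg h E
  haveI : Algebra.FiniteType R E := finiteType h E
  obtain ⟨n, g, hg⟩ := Algebra.FiniteType.iff_quotient_mvPolynomial''.1 (inferInstance : Algebra.FiniteType R E)
  obtain ⟨t₁, ht₁, h₁⟩ := EtMilLib.exists_finset_kernel R R' g hg
  obtain ⟨t₂, ht₂, h₂⟩ := EtMilLib.exists_finset_kernel R (Localization.Away f) g hg
  set K0 : Ideal (MvPolynomial (Fin n) R) := Ideal.span ((t₁ ∪ t₂ : Finset _) : Set _) with hK0
  let K := (RingHom.ker g).restrictScalars R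
  have hle : K0.restrictScalars R ≤ K := fun x hx => (Ideal.span_le.2 fun y hy =>
    (Finset.mem_union.1 hy).elim (ht₁ y) (ht₂ y) : K0 ≤ RingHom.ker g) hx
  have hinj : ∀ (S : Type u) [CommRing S] [Algebra R S], Function.Injective (LinearMap.lTensor S K.subtype) :=
    fun S _ _ => LinearMap.lTensor_injective_of_exact_of_flat g.toLinearMap hg K.subtype
      (Submodule.subtype_injective _) (fun x => ⟨fun hx => ⟨⟨x, hx⟩, rfl⟩, by rintro ⟨k, rfl⟩; exact k.2⟩) S
  let ι := Submodule.inclusion hle
  have hsurj : ∀ (S : Type u) [CommRing S] [Algebra R S],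
      (∀ x : S ⊗[R] K, LinearMap.lTensor S K.subtype x ∈
        LinearMap.range (LinearMap.lTensor S (K0.restrictScalars R).subtype)) →
      Subsingleton (S ⊗[R] (K ⧸ LinearMap.range ι)) := by
    intro S _ _ hS
    refine subsingleton_of_forall_eq 0 fun z => ?_
    obtain ⟨y, rfl⟩ := LinearMap.lTensor_surjective S (Submodule.mkQ_surjective (LinearMap.range ι)) z
    obtain ⟨w, hw⟩ := hS y
    obtain rfl : LinearMap.lTensor S ι w = y := hinj S (by
      rw [← hw, ← LinearMap.comp_apply, ← LinearMap.lTensor_comp, Submodule.subtype_comp_inclusion])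
    rw [← LinearMap.comp_apply, ← LinearMap.lTensor_comp, LinearMap.range_mkQ_comp, LinearMap.lTensor_zero,
      LinearMap.zero_apply]
  haveI := hsurj R' (h₁ K0 fun x hx => Ideal.subset_span (Finset.mem_union_left _ hx))
  haveI := hsurj _ (h₂ K0 fun x hx => Ideal.subset_span (Finset.mem_union_right _ hx))
  haveI := subsingleton_of_both h (K ⧸ LinearMap.range ι)
  refine Algebra.FinitePresentation.of_surjective hg ⟨t₁ ∪ t₂, le_antisymm (fun x hx => hle hx) fun x hx => ?_⟩
  obtain ⟨w, hw⟩ := (Submodule.Quotient.mk_eq_zero _).1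
    (Subsingleton.elim (Submodule.Quotient.mk (p := LinearMap.range ι) (⟨x, hx⟩ : K)) 0)
  have hwe : (w : MvPolynomial (Fin n) R) = x := congrArg Subtype.val hw
  exact hwe ▸ w.2

attribute [local instance] Algebra.TensorProduct.rightAlgebra in
/-- Étaleness descends along a glueing pair. -/
theorem etale [Algebra.Etale R' (R' ⊗[R] E)]
    [Algebra.Etale (Localization.Away f) (Localization.Away f ⊗[R] E)] : Algebra.Etale R E := by
  haveI : Algebra.FinitePresentation R E := finitePresentation_alg h E
  haveI : Module.Flat R E := flat_alg h E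
  haveI : Algebra.FormallyUnramified R E := by
    haveI : Subsingleton (R' ⊗[R] Ω[E⁄R]) :=
      (KaehlerDifferential.tensorKaehlerEquivBase R R' E (R' ⊗[R] E)).toEquiv.subsingleton
    haveI : Subsingleton (Localization.Away f ⊗[R] Ω[E⁄R]) :=
      (KaehlerDifferential.tensorKaehlerEquivBase R (Localization.Away f) E
        (Localization.Away f ⊗[R] E)).toEquiv.subsingleton
    exact ⟨subsingleton_of_both h _⟩
  exact Algebra.Etale.of_formallyUnramified_of_flat

attribute [local instance] Algebra.TensorProduct.rightAlgebra in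
omit h in
/-- `(R' ⊗ A) ⊗_A B = R' ⊗ B`. -/
theorem equiv_tensor (A B : Type u) [CommRing A] [Algebra R A] [CommRing B] [Algebra R B] (φ : A →ₐ[R] B) :
    letI := φ.toRingHom.toAlgebra
    letI := (Algebra.TensorProduct.map (AlgHom.id R R') φ).toRingHom.toAlgebra
    Nonempty ((R' ⊗[R] A) ⊗[A] B ≃ₐ[R' ⊗[R] A] R' ⊗[R] B) := by
  letI := φ.toRingHom.toAlgebra
  letI := (Algebra.TensorProduct.map (AlgHom.id R R') φ).toRingHom.toAlgebra
  haveI : IsScalarTower R A B := IsScalarTower.of_algebraMap_eq fun r => (φ.commutes r).symm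
  letI : Algebra A (R' ⊗[R] B) := ((algebraMap B (R' ⊗[R] B)).comp (algebraMap A B)).toAlgebra
  haveI : IsScalarTower A B (R' ⊗[R] B) := IsScalarTower.of_algebraMap_eq fun _ => rfl
  haveI : IsScalarTower A (R' ⊗[R] A) (R' ⊗[R] B) := IsScalarTower.of_algebraMap_eq fun _ => rfl
  haveI : IsScalarTower R A (R' ⊗[R] B) := IsScalarTower.of_algebraMap_eq fun r => by
    show algebraMap R (R' ⊗[R] B) r = algebraMap B (R' ⊗[R] B) (φ (algebraMap R A r))
    rw [φ.commutes, ← IsScalarTower.algebraMap_apply]
  haveI : IsScalarTower R' (R' ⊗[R] A) (R' ⊗[R] B) :=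
    @IsScalarTower.of_algebraMap_eq R' (R' ⊗[R] A) (R' ⊗[R] B) _ _ _ _ _ _ fun r => by
      show r ⊗ₜ[R] (1 : B) = r ⊗ₜ[R] φ 1
      rw [map_one]
  haveI : Algebra.IsPushout R A R' (R' ⊗[R] A) := .symm inferInstance
  haveI : Algebra.IsPushout R B R' (R' ⊗[R] B) := .symm inferInstance
  haveI : Algebra.IsPushout A B (R' ⊗[R] A) (R' ⊗[R] B) := (Algebra.IsPushout.comp_iff R A R' (R' ⊗[R] A)).1 inferInstance
  haveI : Algebra.IsPushout A (R' ⊗[R] A) B (R' ⊗[R] B) := .symm inferInstance
  exact ⟨Algebra.IsPushout.equiv A (R' ⊗[R] A) B (R' ⊗[R] B)⟩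

omit h in
/-- `A_f ⊗_A B = B_f`. -/
theorem equiv_away (A B : Type u) [CommRing A] [CommRing B] [Algebra A B] (g : A) :
    letI := (Localization.awayMap (algebraMap A B) g).toAlgebra
    Nonempty (Localization.Away g ⊗[A] B ≃ₐ[Localization.Away g] Localization.Away (algebraMap A B g)) := by
  letI := (Localization.awayMap (algebraMap A B) g).toAlgebra
  haveI : IsScalarTower A (Localization.Away g) (Localization.Away (algebraMap A B g)) :=
    IsScalarTower.of_algebraMap_eq fun x => by
      rw [RingHom.algebraMap_toAlgebra, awayMap_algebraMap, ← IsScalarTower.algebraMap_apply]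
  haveI : IsLocalization (Algebra.algebraMapSubmonoid B (Submonoid.powers g))
      (Localization.Away (algebraMap A B g)) := by
    rw [Algebra.algebraMapSubmonoid, Submonoid.map_powers]
    infer_instance
  haveI : Algebra.IsPushout A (Localization.Away g) B (Localization.Away (algebraMap A B g)) :=
    (Algebra.isPushout_of_isLocalization (Submonoid.powers g) _ _ _).symm
  exact ⟨Algebra.IsPushout.equiv A (Localization.Away g) B _⟩

end Groth.Agent.EtGlueLib
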