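import Groth.Agent.EtGlueLib.Flat

/-!
Glueing pairs: finiteness and finite presentation descend along `R → R' × R_f`.
-/

set_option autoImplicit false
set_option linter.style.haveILetI false

namespace Groth.Agent.EtGlueLib

universe u

open TensorProduct EtGlue

section gen

variable (R S : Type u) [CommRing R] [CommRing S] [Algebra R S] {M : Type u} [AddCommGroup M] [Module R M]

theorem subsingleton_quot_of_span {N : Submodule R M}
    (h : Submodule.span S ((fun m => (1 : S) ⊗ₜ[R] m) '' (N : Set M)) = ⊤) : Subsingleton (S ⊗[R] (M ⧸ N)) := by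
  refine subsingleton_of_forall_eq 0 fun z => ?_
  obtain ⟨y, rfl⟩ := LinearMap.lTensor_surjective S (Submodule.mkQ_surjective N) z
  refine (Submodule.span_le (p := LinearMap.ker (N.mkQ.baseChange S))).2 ?_ (h.ge (Submodule.mem_top (x := y)))
  rintro _ ⟨m, hm, rfl⟩
  show N.mkQ.baseChange S ((1 : S) ⊗ₜ[R] m) = 0
  rw [LinearMap.baseChange_tmul, show N.mkQ m = 0 from (Submodule.Quotient.mk_eq_zero N).2 hm, tmul_zero]

theorem exists_finset_span [Module.Finite S (S ⊗[R] M)] :
    ∃ t : Finset M, Submodule.span S ((fun m => (1 : S) ⊗ₜ[R] m) '' (t : Set M)) = ⊤ := by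
  classical
  obtain ⟨U, hU⟩ := (inferInstance : Module.Finite S (S ⊗[R] M)).fg_top
  have key : ∀ y : S ⊗[R] M, ∃ t : Finset M,
      y ∈ Submodule.span S ((fun m => (1 : S) ⊗ₜ[R] m) '' (t : Set M)) := by
    intro y
    induction y using TensorProduct.induction_on with
    | zero => exact ⟨∅, zero_mem _⟩
    | tmul a m =>
      refine ⟨{m}, ?_⟩
      rw [show a ⊗ₜ[R] m = a • ((1 : S) ⊗ₜ[R] m) by rw [smul_tmul', smul_eq_mul, mul_one]]
      exact Submodule.smul_mem _ a
        (Submodule.subset_span (Set.mem_image_of_mem _ (Finset.mem_coe.2 (Finset.mem_singleton_self m))))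
    | add x y hx hy =>
      obtain ⟨t, ht⟩ := hx; obtain ⟨t', ht'⟩ := hy
      exact ⟨t ∪ t', add_mem (Submodule.span_mono (Set.image_mono (Finset.coe_subset.2 Finset.subset_union_left)) ht)
        (Submodule.span_mono (Set.image_mono (Finset.coe_subset.2 Finset.subset_union_right)) ht')⟩
  choose t ht using key
  refine ⟨U.biUnion t, eq_top_iff.2 (hU ▸ Submodule.span_le.2 fun u hu => ?_)⟩
  exact Submodule.span_mono (Set.image_mono (Finset.coe_subset.2 (Finset.subset_biUnion_of_mem t hu))) (ht u)

theorem finite_ker {F : Type u} [AddCommGroup F] [Module R F] [Module.Finite R F] (π : F →ₗ[R] M)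
    (hπ : Function.Surjective π) (hinj : Function.Injective ((LinearMap.ker π).subtype.baseChange S))
    [Module.FinitePresentation S (S ⊗[R] M)] : Module.Finite S (S ⊗[R] LinearMap.ker π) := by
  have hs : Function.Surjective (π.baseChange S) := LinearMap.lTensor_surjective S hπ
  haveI : Module.Finite S (LinearMap.ker (π.baseChange S)) :=
    Module.Finite.of_fg (Module.FinitePresentation.fg_ker _ hs)
  have hex : Function.Exact ((LinearMap.ker π).subtype.baseChange S) (π.baseChange S) :=
    lTensor_exact S (LinearMap.exact_subtype_ker_map π) hπ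
  have hr : LinearMap.range ((LinearMap.ker π).subtype.baseChange S) = LinearMap.ker (π.baseChange S) :=
    SetLike.ext fun x => (hex x).symm
  exact Module.Finite.equiv ((LinearEquiv.ofInjective _ hinj).trans (LinearEquiv.ofEq _ _ hr)).symm

end gen

variable {R R' : Type u} [CommRing R] [CommRing R'] [Algebra R R'] {f : R}
  (h : IsGlueingPair R R' f) (M : Type u) [AddCommGroup M] [Module R M]

include h

/-- Finiteness descends along a glueing pair. -/
theorem finite [Module.Finite R' (R' ⊗[R] M)] [Module.Finite (Localization.Away f) (Localization.Away f ⊗[R] M)] :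
    Module.Finite R M := by
  classical
  obtain ⟨t₁, h₁⟩ := exists_finset_span R R' (M := M)
  obtain ⟨t₂, h₂⟩ := exists_finset_span R (Localization.Away f) (M := M)
  set N := Submodule.span R ((t₁ ∪ t₂ : Finset M) : Set M) with hN
  haveI := subsingleton_quot_of_span R R' (N := N) (eq_top_iff.2 (h₁.ge.trans (Submodule.span_mono
    (Set.image_mono fun m hm => Submodule.subset_span (Finset.coe_subset.2 Finset.subset_union_left hm)))))
  haveI := subsingleton_quot_of_span R (Localization.Away f) (N := N) (eq_top_iff.2 (h₂.ge.trans (Submodule.span_mono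
    (Set.image_mono fun m hm => Submodule.subset_span (Finset.coe_subset.2 Finset.subset_union_right hm)))))
  haveI := subsingleton_of_both h (M ⧸ N)
  exact ⟨⟨t₁ ∪ t₂, eq_top_iff.2 fun m _ => (Submodule.Quotient.mk_eq_zero N).1 (Subsingleton.elim _ _)⟩⟩

/-- Finite presentation descends along a glueing pair, for modules with flat localisation. -/
theorem finitePresentation [Module.Flat (Localization.Away f) (Localization.Away f ⊗[R] M)]
    [Module.FinitePresentation R' (R' ⊗[R] M)]
    [Module.FinitePresentation (Localization.Away f) (Localization.Away f ⊗[R] M)] :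
    Module.FinitePresentation R M := by
  haveI : Module.Flat (Localization.Away f) (LocalizedModule (Submonoid.powers f) M) :=
    Module.Flat.of_linearEquiv (LocalizedModule.equivTensorProduct (Submonoid.powers f) M)
  haveI := finite h M
  obtain ⟨r, π, hπ⟩ := Module.Finite.exists_fin' R M
  haveI : Module.Flat R (Localization.Away f) := IsLocalization.flat _ (Submonoid.powers f)
  haveI := finite_ker R R' π hπ (bc_injective h π hπ)
  haveI := finite_ker R (Localization.Away f) π hπ
    (Module.Flat.lTensor_preserves_injective_linearMap _ (Submodule.subtype_injective _))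
  exact Module.finitePresentation_of_surjective π hπ ((Module.Finite.iff_fg).1 (finite h (LinearMap.ker π)))

/-- Finite projectivity descends along a glueing pair. -/
theorem finite_projective [Module.Finite R' (R' ⊗[R] M)] [Module.Projective R' (R' ⊗[R] M)]
    [Module.Finite (Localization.Away f) (Localization.Away f ⊗[R] M)]
    [Module.Projective (Localization.Away f) (Localization.Away f ⊗[R] M)] :
    Module.Finite R M ∧ Module.Projective R M := by
  haveI : Module.FinitePresentation R' (R' ⊗[R] M) := Module.finitePresentation_of_projective _ _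
  haveI : Module.FinitePresentation (Localization.Away f) (Localization.Away f ⊗[R] M) :=
    Module.finitePresentation_of_projective _ _
  haveI : Module.Flat (Localization.Away f) (LocalizedModule (Submonoid.powers f) M) :=
    Module.Flat.of_linearEquiv (LocalizedModule.equivTensorProduct (Submonoid.powers f) M)
  haveI := finitePresentation h M
  haveI := flat h M
  exact ⟨inferInstance, Module.Flat.projective_of_finitePresentation⟩

end Groth.Agent.EtGlueLib
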