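import Groth.Agent.EtGlueLib.Basic
import Groth.Agent.EtMilLib.Flat

/-!
Glueing pairs: flatness and finiteness descend along `R → R' × R_f`.
-/

set_option autoImplicit false
set_option linter.style.haveILetI false

namespace Groth.Agent.EtGlueLib

universe u

open TensorProduct EtGlue

section gen

variable {R S : Type u} [CommRing R] [CommRing S] [Algebra R S]
  {K F G : Type u} [AddCommGroup K] [Module R K] [AddCommGroup F] [Module R F] [AddCommGroup G] [Module R G]

/-- The kernel of a surjection between flat modules is flat. -/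
theorem flat_of_exact [Module.Flat R F] [Module.Flat R G] (ι : K →ₗ[R] F) (hι : Function.Injective ι)
    (p : F →ₗ[R] G) (hp : Function.Surjective p) (H : Function.Exact ι p) : Module.Flat R K := by
  rw [Module.Flat.iff_rTensor_preserves_injective_linearMap]
  intro X₁ X₂ _ _ _ _ g hg
  have h : Function.Injective (g.rTensor F ∘ ι.lTensor X₁) :=
    (Module.Flat.rTensor_preserves_injective_linearMap g hg).comp
      (LinearMap.lTensor_injective_of_exact_of_flat p hp ι hι H X₁)
  rw [← LinearMap.coe_comp, LinearMap.rTensor_comp_lTensor, ← LinearMap.lTensor_comp_rTensor,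
    LinearMap.coe_comp] at h
  exact h.of_comp

/-- A kernel element dies after base change to `S` when `S ⊗ G` is flat. -/
theorem one_tmul_eq_zero (ι : K →ₗ[R] F) (p : F →ₗ[R] G) (hp : Function.Surjective p) (H : Function.Exact ι p)
    (hι : Function.Injective (ι.baseChange S)) [Module.Flat S (S ⊗[R] G)]
    {Y : Type u} [AddCommGroup Y] [Module R Y] {z : Y ⊗[R] K} (hz : ι.lTensor Y z = 0) :
    (1 : S) ⊗ₜ[R] z = 0 := by
  have key : ∀ w : Y ⊗[R] K, ι.lTensor (S ⊗[R] Y) ((TensorProduct.assoc R S Y K).symm ((1 : S) ⊗ₜ w)) =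
      (TensorProduct.assoc R S Y F).symm ((1 : S) ⊗ₜ ι.lTensor Y w) := fun w => by
    induction w using TensorProduct.induction_on with
    | zero => simp
    | tmul y k => simp
    | add a b ha hb => simp only [tmul_add, map_add, ha, hb]
  refine (TensorProduct.assoc R S Y K).symm.injective
    (EtMilLib.lTensor_injective_bc ι p hp H hι (S ⊗[R] Y) ?_)
  rw [key, hz, tmul_zero, map_zero, map_zero, map_zero]

end gen

variable {R R' : Type u} [CommRing R] [CommRing R'] [Algebra R R'] {f : R}

/-- `f`-power torsion is the kernel of `X → R_f ⊗ X`. -/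
theorem torsion_of_away {X : Type u} [AddCommGroup X] [Module R X] {z : X}
    (hz : (1 : Localization.Away f) ⊗ₜ[R] z = 0) : ∃ n : ℕ, f ^ n • z = 0 := by
  obtain ⟨⟨_, n, rfl⟩, hn⟩ := (IsLocalizedModule.eq_zero_iff (Submonoid.powers f)
    (TensorProduct.mk R (Localization (Submonoid.powers f)) X 1)).1 hz
  exact ⟨n, hn⟩

/-- Free modules are glueable. -/
theorem finsupp_inj (h : IsGlueingPair R R' f) {ι : Type u} (t : ι →₀ R) {n : ℕ} (ht : f ^ n • t = 0)
    (h0 : (1 : R') ⊗ₜ[R] t = 0) : t = 0 := by
  classical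
  refine Finsupp.ext fun i => ?_
  have h1 := congrArg (fun w => TensorProduct.finsuppScalarRight R R R' ι w i) h0
  have h2 : f ^ n * t i = 0 := by simpa using congrArg (fun v : ι →₀ R => v i) ht
  have h3 : algebraMap R R' (t i) = 0 := by
    rw [Algebra.algebraMap_eq_smul_one]
    simpa [TensorProduct.finsuppScalarRight_apply_tmul_apply] using h1
  have h4 : (fun r : R => (algebraMap R R' r, algebraMap R (Localization.Away f) r)) (t i) =
      (fun r : R => (algebraMap R R' r, algebraMap R (Localization.Away f) r)) 0 := Prod.ext (by simpa using h3) (by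
    show algebraMap R (Localization.Away f) (t i) = algebraMap R (Localization.Away f) 0
    rw [map_zero]
    exact (IsLocalization.map_eq_zero_iff (Submonoid.powers f) (Localization.Away f) (t i)).2 ⟨⟨f ^ n, n, rfl⟩, h2⟩)
  simpa using h.2.1 h4

/-- Free modules are glueable. -/
theorem free_inj (h : IsGlueingPair R R' f) {F : Type u} [AddCommGroup F] [Module R F] [Module.Free R F] (t : F)
    {n : ℕ} (ht : f ^ n • t = 0) (h0 : (1 : R') ⊗ₜ[R] t = 0) : t = 0 := by
  let b := (Module.Free.chooseBasis R F).repr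
  refine b.map_eq_zero_iff.1 (finsupp_inj h (b t) (n := n) (by rw [← map_smul, ht, map_zero]) ?_)
  have := congrArg (b.toLinearMap.lTensor R') h0
  rwa [LinearMap.lTensor_tmul, map_zero] at this

/-- A free presentation, with opaque free module. -/
theorem exists_pres (M : Type u) [AddCommGroup M] [Module R M] :
    ∃ (F : Type u) (_ : AddCommGroup F) (_ : Module R F) (_ : Module.Free R F) (π : F →ₗ[R] M),
      Function.Surjective π :=
  ⟨M →₀ R, inferInstance, inferInstance, inferInstance, Finsupp.linearCombination R (id : M → M),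
    Finsupp.linearCombination_surjective _ Function.surjective_id⟩

section pres

variable (h : IsGlueingPair R R' f) {F : Type u} [AddCommGroup F] [Module R F] [Module.Free R F]
  {M : Type u} [AddCommGroup M] [Module R M] (π : F →ₗ[R] M) (hπ : Function.Surjective π)
  [Module.Flat (Localization.Away f) (LocalizedModule (Submonoid.powers f) M)]

theorem flat_away_tensor : Module.Flat (Localization.Away f) (Localization.Away f ⊗[R] M) :=
  Module.Flat.of_linearEquiv (LocalizedModule.equivTensorProduct (Submonoid.powers f) M).symm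

include hπ in
/-- Kernels after tensoring are `f`-power torsion. -/
theorem ker_torsion {Y : Type u} [AddCommGroup Y] [Module R Y] {z : Y ⊗[R] LinearMap.ker π}
    (hz : (LinearMap.ker π).subtype.lTensor Y z = 0) : ∃ n : ℕ, f ^ n • z = 0 := by
  haveI : Module.Flat R (Localization.Away f) := IsLocalization.flat _ (Submonoid.powers f)
  haveI := flat_away_tensor (f := f) (M := M)
  exact torsion_of_away (one_tmul_eq_zero (S := Localization.Away f) _ π hπ (LinearMap.exact_subtype_ker_map π)
    (Module.Flat.lTensor_preserves_injective_linearMap _ (Submodule.subtype_injective _)) hz)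

include h hπ in
/-- `Tor₁(R', M) = 0` when `M_f` is flat. -/
theorem bc_injective : Function.Injective ((LinearMap.ker π).subtype.baseChange R') := by
  refine (injective_iff_map_eq_zero _).2 fun x hx => ?_
  obtain ⟨n, hn⟩ := ker_torsion (f := f) π hπ (Y := R') (z := x) hx
  have hs := surjective_torsion h (LinearMap.ker π) x
  obtain ⟨k, ⟨m, hm⟩, hk⟩ := hs (by exact ⟨n, hn⟩)
  rw [← hk, LinearMap.baseChange_tmul] at hx
  have h1 : f ^ m • (k : F) = 0 := congrArg Subtype.val hm
  have h3 : k = 0 := Subtype.ext (free_inj h (k : F) h1 hx)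
  rw [← hk, h3, tmul_zero]

include h hπ in
/-- Torsion of a presented module is seen after base change. -/
theorem inj_of_pres {e : F} {j : ℕ} (hm : f ^ j • π e = 0) (h0 : (1 : R') ⊗ₜ[R] π e = 0) : π e = 0 := by
  have hker : π.lTensor R' ((1 : R') ⊗ₜ[R] e) = 0 := by
    rw [LinearMap.lTensor_tmul]
    exact h0
  have hexact : Function.Exact ((LinearMap.ker π).subtype.lTensor R') (π.lTensor R') :=
    lTensor_exact R' (LinearMap.exact_subtype_ker_map π) hπ
  obtain ⟨w, hw⟩ : ∃ w, (LinearMap.ker π).subtype.lTensor R' w = (1 : R') ⊗ₜ[R] e := (hexact _).1 hker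
  have hk : f ^ j • e ∈ LinearMap.ker π := by rw [LinearMap.mem_ker, map_smul, hm]
  have hw' : f ^ j • w = (1 : R') ⊗ₜ[R] (⟨_, hk⟩ : LinearMap.ker π) := bc_injective h π hπ (by
    show (LinearMap.ker π).subtype.lTensor R' (f ^ j • w) = (LinearMap.ker π).subtype.lTensor R' ((1 : R') ⊗ₜ[R] (⟨_, hk⟩ : LinearMap.ker π))
    rw [map_smul, hw, LinearMap.lTensor_tmul, ← tmul_smul]; rfl)
  obtain ⟨k, hk'⟩ := exists_eq_smul_of_tmul_eq h.1 hw'.symm
  have hk'' : f ^ j • e = f ^ j • (k : F) := congrArg Subtype.val hk'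
  have h1 : f ^ j • (w - (1 : R') ⊗ₜ[R] k) = 0 := by
    rw [smul_sub, hw', ← tmul_smul, hk', sub_self]
  have hs := surjective_torsion h (LinearMap.ker π) (w - (1 : R') ⊗ₜ[R] k)
  obtain ⟨k₂, ⟨i, hi⟩, hk₂⟩ := hs (by exact ⟨j, h1⟩)
  have h2 : e - (k : F) - (k₂ : F) = 0 := by
    refine free_inj h _ (n := j + i) ?_ ?_
    · have hi' : f ^ i • (k₂ : F) = 0 := congrArg Subtype.val hi
      rw [smul_sub, pow_add, mul_smul, mul_smul, hi', smul_zero, sub_zero, smul_comm, smul_sub, hk'', sub_self,
        smul_zero]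
    · have := congrArg ((LinearMap.ker π).subtype.lTensor R') hk₂
      rw [map_sub, hw, LinearMap.lTensor_tmul, LinearMap.lTensor_tmul] at this
      rw [tmul_sub, tmul_sub]
      exact sub_eq_zero.2 this.symm
  rw [show e = ((k + k₂ : LinearMap.ker π) : F) by rw [Submodule.coe_add]; exact (sub_eq_zero.1 (by rw [← h2]; abel))]
  exact (k + k₂).2

end pres

section main

variable (h : IsGlueingPair R R' f) (M : Type u) [AddCommGroup M] [Module R M]
  [Module.Flat (Localization.Away f) (LocalizedModule (Submonoid.powers f) M)]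

include h

/-- Modules with flat localisation are glueable. -/
theorem inj_of_flat_away {m : M} {j : ℕ} (hm : f ^ j • m = 0) (h0 : (1 : R') ⊗ₜ[R] m = 0) : m = 0 := by
  obtain ⟨F, _, _, _, π, hπ⟩ := exists_pres (R := R) M
  obtain ⟨e, rfl⟩ := hπ m
  exact inj_of_pres h π hπ hm h0

omit [Module.Flat (Localization.Away f) (LocalizedModule (Submonoid.powers f) M)] in
/-- A module with vanishing base changes vanishes. -/
theorem subsingleton_of_both [Subsingleton (R' ⊗[R] M)] [Subsingleton (Localization.Away f ⊗[R] M)] :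
    Subsingleton M := by
  haveI : Module.Flat (Localization.Away f) (LocalizedModule (Submonoid.powers f) M) :=
    Module.Flat.of_linearEquiv (LocalizedModule.equivTensorProduct (Submonoid.powers f) M)
  refine subsingleton_of_forall_eq 0 fun m => ?_
  obtain ⟨n, hn⟩ := torsion_of_away (f := f) (z := m) (Subsingleton.elim _ _)
  exact inj_of_flat_away h M hn (Subsingleton.elim _ _)

variable [Module.Flat R' (R' ⊗[R] M)]

variable {M} in
/-- Purity against modules killed by a power of `f`. -/
theorem killed {F : Type u} [AddCommGroup F] [Module R F] [Module.Free R F] (π : F →ₗ[R] M) (hπ : Function.Surjective π) {Q : Type u} [AddCommGroup Q]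
    [Module R Q] {n : ℕ} (hQ : ∀ q : Q, f ^ n • q = 0) {z : Q ⊗[R] LinearMap.ker π}
    (hz : (LinearMap.ker π).subtype.lTensor Q z = 0) : z = 0 := by
  have h1 := one_tmul_eq_zero (S := R') _ π hπ (LinearMap.exact_subtype_ker_map π) (bc_injective h π hπ) hz
  obtain ⟨b, rfl⟩ := exists_eq_smul_of_tmul_eq h.1 (n := n) (x := 0) (h1.trans (smul_zero _).symm)
  clear h1 hz
  induction b using TensorProduct.induction_on with
  | zero => exact smul_zero _
  | tmul q k => rw [TensorProduct.smul_tmul', hQ, zero_tmul]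
  | add a b ha hb => rw [smul_add, ha, hb, add_zero]

variable {M} in
/-- Purity against `f`-torsion free modules, one syzygy up. -/
theorem ker_torsionFree {F : Type u} [AddCommGroup F] [Module R F] [Module.Free R F] (π : F →ₗ[R] M) (hπ : Function.Surjective π) {Y : Type u}
    [AddCommGroup Y] [Module R Y] (hY : ∀ (k : ℕ) (y : Y), f ^ k • y = 0 → y = 0) {n : ℕ}
    {ζ : Y ⊗[R] LinearMap.ker π} (hζ : f ^ n • ζ = 0) : ζ = 0 := by
  let K := LinearMap.ker π
  haveI : Module.Flat R (Localization.Away f) := IsLocalization.flat _ (Submonoid.powers f)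
  haveI := flat_away_tensor (f := f) (M := M)
  have hsurj : ∀ (S : Type u) [CommRing S] [Algebra R S], Function.Surjective (π.baseChange S) :=
    fun S _ _ => LinearMap.lTensor_surjective S hπ
  have hex : ∀ (S : Type u) [CommRing S] [Algebra R S],
      Function.Exact (K.subtype.baseChange S) (π.baseChange S) :=
    fun S _ _ => lTensor_exact S (LinearMap.exact_subtype_ker_map π) hπ
  haveI : Module.Flat R' (R' ⊗[R] K) :=
    flat_of_exact _ (bc_injective h π hπ) _ (hsurj R') (hex R')
  haveI : Module.Flat (Localization.Away f) (Localization.Away f ⊗[R] K) :=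
    flat_of_exact _ (Module.Flat.lTensor_preserves_injective_linearMap _ (Submodule.subtype_injective _)) _
      (hsurj _) (hex _)
  haveI : Module.Flat (Localization.Away f) (LocalizedModule (Submonoid.powers f) K) :=
    Module.Flat.of_linearEquiv (LocalizedModule.equivTensorProduct (Submonoid.powers f) K)
  obtain ⟨F₂, _, _, _, π₂, hπ₂⟩ := exists_pres (R := R) K
  obtain ⟨ζ', rfl⟩ := LinearMap.lTensor_surjective Y hπ₂ ζ
  rw [← map_smul] at hζ
  obtain ⟨w, hw⟩ := (lTensor_exact Y (LinearMap.exact_subtype_ker_map π₂) hπ₂ _).1 hζ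
  let μ : Y →ₗ[R] Y := f ^ n • LinearMap.id
  let q := (LinearMap.range μ).mkQ
  have hqμ : q ∘ₗ μ = 0 := LinearMap.range_mkQ_comp μ
  have hμ : ∀ (X : Type u) [AddCommGroup X] [Module R X] (x : Y ⊗[R] X), μ.rTensor X x = f ^ n • x :=
    fun X _ _ x => by
      show (f ^ n • LinearMap.id).rTensor X x = _
      rw [LinearMap.rTensor_smul, LinearMap.smul_apply, LinearMap.rTensor_id, LinearMap.id_apply]
  have h1 : q.rTensor _ w = 0 := by
    refine killed h π₂ hπ₂ (n := n) (fun v => ?_) ?_
    · obtain ⟨y, rfl⟩ := Submodule.mkQ_surjective _ v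
      rw [← map_smul]
      exact (Submodule.Quotient.mk_eq_zero _).2 ⟨y, rfl⟩
    · rw [← LinearMap.comp_apply, LinearMap.lTensor_comp_rTensor, ← LinearMap.rTensor_comp_lTensor,
        LinearMap.comp_apply, hw, ← hμ, ← LinearMap.comp_apply, ← LinearMap.rTensor_comp, hqμ,
        LinearMap.rTensor_zero, LinearMap.zero_apply]
  obtain ⟨w', rfl⟩ := (rTensor_exact _ (LinearMap.exact_map_mkQ_range μ) (Submodule.mkQ_surjective _) w).1 h1
  have h2 : ζ' = (LinearMap.ker π₂).subtype.lTensor Y w' := by
    refine Module.Flat.rTensor_preserves_injective_linearMap (M := F₂) μ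
      ((injective_iff_map_eq_zero _).2 fun y hy => hY n y hy) ?_
    rw [hμ, hμ, ← hw, hμ, map_smul]
  rw [h2, ← LinearMap.comp_apply, ← LinearMap.lTensor_comp, LinearMap.comp_ker_subtype, LinearMap.lTensor_zero,
    LinearMap.zero_apply]

/-- **Flatness descends along a glueing pair.** -/
theorem flat : Module.Flat R M := by
  classical
  obtain ⟨F, _, _, _, π, hπ⟩ := exists_pres (R := R) M
  refine EtMilLib.flat_of_pure _ π hπ (LinearMap.exact_subtype_ker_map π) fun Y _ _ =>
    (injective_iff_map_eq_zero _).2 fun z hz => ?_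
  obtain ⟨n, hn⟩ := ker_torsion (f := f) π hπ hz
  let T := Submodule.torsion' R Y (Submonoid.powers f)
  have hfree : ∀ (k : ℕ) (y : Y ⧸ T), f ^ k • y = 0 → y = 0 := fun k y hy => by
    obtain ⟨y, rfl⟩ := Submodule.mkQ_surjective _ y
    rw [← map_smul] at hy
    obtain ⟨⟨_, i, rfl⟩, hi⟩ := (Submodule.mem_torsion'_iff _ _).1 ((Submodule.Quotient.mk_eq_zero T).1 hy)
    refine (Submodule.Quotient.mk_eq_zero T).2 ((Submodule.mem_torsion'_iff _ _).2 ⟨⟨_, i + k, rfl⟩, ?_⟩)
    show f ^ (i + k) • y = 0
    rw [pow_add, mul_smul]; exact hi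
  have h1 : T.mkQ.rTensor (LinearMap.ker π) z = 0 :=
    ker_torsionFree h π hπ hfree (n := n) (by rw [← map_smul, hn, map_zero])
  obtain ⟨y, rfl⟩ := (rTensor_exact _ (LinearMap.exact_subtype_mkQ T) (Submodule.mkQ_surjective _) z).1 h1
  obtain ⟨S, rfl⟩ := TensorProduct.exists_finset y
  have hm : ∀ p : T, ∃ m : ℕ, f ^ m • (p : Y) = 0 := fun p => by
    obtain ⟨⟨_, i, rfl⟩, hi⟩ := (Submodule.mem_torsion'_iff _ _).1 p.2
    exact ⟨i, hi⟩
  choose m hm using hm
  let n₁ := S.sup fun p => m p.1
  let Q := Submodule.torsionBy R Y (f ^ n₁)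
  have hmem : ∀ p : S, ((p.1.1 : T) : Y) ∈ Q := fun p => by
    show ((p.1.1 : T) : Y) ∈ Submodule.torsionBy R Y (f ^ S.sup fun p => m p.1)
    rw [Submodule.mem_torsionBy_iff, ← Nat.sub_add_cancel (Finset.le_sup (f := fun p => m p.1) p.2), pow_add,
      mul_smul, hm, smul_zero]
  let y₀ : Q ⊗[R] LinearMap.ker π := ∑ p : S, (⟨_, hmem p⟩ : Q) ⊗ₜ[R] p.1.2
  have hy : Q.subtype.rTensor (LinearMap.ker π) y₀ = T.subtype.rTensor (LinearMap.ker π) (∑ p ∈ S, p.1 ⊗ₜ[R] p.2) := by
    rw [map_sum, map_sum, ← Finset.sum_coe_sort S]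
    rfl
  rw [← hy] at hz ⊢
  rw [killed h π hπ (n := n₁) (z := y₀) (fun v => Subtype.ext v.2) ?_, map_zero]
  refine Module.Flat.rTensor_preserves_injective_linearMap (M := F) Q.subtype (Submodule.subtype_injective _) ?_
  rw [map_zero, ← hz, ← LinearMap.comp_apply, LinearMap.rTensor_comp_lTensor, ← LinearMap.lTensor_comp_rTensor,
    LinearMap.comp_apply]

end main

end Groth.Agent.EtGlueLib
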