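import Groth.Agent.EtGlueLib.Basic

/-!
Flat glueing along a finitely generated ideal `I` with `R/I = S/IS`.
-/

set_option autoImplicit false
set_option linter.style.haveILetI false

namespace Groth.Agent.EtGlueLib

universe u

open TensorProduct EtGlue

variable {R S : Type u} [CommRing R] [CommRing S] [Algebra R S] {I : Ideal R}
  (hq : Function.Bijective
    (Ideal.quotientMap (Ideal.map (algebraMap R S) I) (algebraMap R S) Ideal.le_comap_map))

include hq in
theorem decomp_mod (s : S) : ∃ r : R, s - algebraMap R S r ∈ I.map (algebraMap R S) := by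
  obtain ⟨q, hr⟩ := hq.2 (Ideal.Quotient.mk _ s)
  obtain ⟨r, rfl⟩ := Ideal.Quotient.mk_surjective q
  exact ⟨r, Ideal.Quotient.eq.1 (by rw [← hr, Ideal.quotientMap_mk])⟩

include hq in
/-- `X → S ⊗ X` is surjective for modules killed by a power of `I`. -/
theorem surjective_of_killed (k : ℕ) (X : Type u) [AddCommGroup X] [Module R X]
    (hX : ∀ a ∈ I ^ k, ∀ x : X, a • x = 0) : Function.Surjective (TensorProduct.mk R S X 1) := by
  induction k generalizing X with
  | zero => exact fun z => ⟨0, by
      have h : ∀ x : X, x = 0 := fun x => by simpa using hX 1 (by simp) x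
      rw [map_zero]
      induction z using TensorProduct.induction_on with
      | zero => rfl
      | tmul s x => rw [h x, tmul_zero]
      | add a b ha hb => rw [← ha, ← hb, add_zero]⟩
  | succ k ih =>
    intro z
    induction z using TensorProduct.induction_on with
    | zero => exact ⟨0, map_zero _⟩
    | tmul s x =>
      let X' : Submodule R X := I • ⊤
      have hsurj := ih X' fun a ha y => Subtype.ext (by
        rcases y with ⟨y, hy⟩
        show a • y = 0
        refine Submodule.smul_induction_on hy (fun b hb w _ => ?_) fun u v hu hv => by rw [smul_add, hu, hv, add_zero]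
        rw [smul_smul]
        exact hX _ (pow_succ I k ▸ Ideal.mul_mem_mul ha hb) w)
      obtain ⟨r, hr⟩ := decomp_mod hq s
      obtain ⟨w, hw⟩ : ∃ w : S ⊗[R] X', X'.subtype.lTensor S w = (s - algebraMap R S r) ⊗ₜ[R] x := by
        refine Submodule.span_induction (p := fun c _ => ∀ c' : S, ∃ w : S ⊗[R] X', X'.subtype.lTensor S w = (c' * c) ⊗ₜ[R] x)
          ?_ ?_ ?_ ?_ (hr : _ ∈ Submodule.span S _) 1 |> fun h => by simpa using h
        · rintro _ ⟨a, ha, rfl⟩ c'
          refine ⟨c' ⊗ₜ ⟨a • x, Submodule.smul_mem_smul ha trivial⟩, ?_⟩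
          rw [LinearMap.lTensor_tmul, Submodule.subtype_apply, ← TensorProduct.smul_tmul, Algebra.smul_def, mul_comm]
        · intro c'; exact ⟨0, by rw [map_zero, mul_zero, zero_tmul]⟩
        · intro a b _ _ ha hb c'
          obtain ⟨u, hu⟩ := ha c'; obtain ⟨v, hv⟩ := hb c'
          exact ⟨u + v, by rw [map_add, hu, hv, mul_add, add_tmul]⟩
        · intro d a _ ha c'
          rw [smul_eq_mul, ← mul_assoc]; exact ha _
      obtain ⟨x', rfl⟩ := hsurj w
      refine ⟨r • x + x', ?_⟩
      rw [map_add]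
      simp only [TensorProduct.mk_apply, LinearMap.lTensor_tmul, Submodule.subtype_apply] at hw ⊢
      rw [hw, ← TensorProduct.smul_tmul, ← Algebra.algebraMap_eq_smul_one, ← add_tmul, add_sub_cancel]
    | add a b ha hb =>
      obtain ⟨u, rfl⟩ := ha; obtain ⟨v, rfl⟩ := hb; exact ⟨u + v, map_add _ _ _⟩

variable [Module.Flat R S]

include hq in
/-- `X → S ⊗ X` is injective for modules killed by a power of `I`. -/
theorem injective_of_killed (k : ℕ) (X : Type u) [AddCommGroup X] [Module R X]
    (hX : ∀ a ∈ I ^ k, ∀ x : X, a • x = 0) : Function.Injective (TensorProduct.mk R S X 1) := by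
  induction k generalizing X with
  | zero =>
    have h : ∀ x : X, x = 0 := fun x => by simpa using hX 1 (by simp) x
    exact fun x y _ => (h x).trans (h y).symm
  | succ k ih =>
    refine (injective_iff_map_eq_zero _).2 fun x hx => ?_
    let X' : Submodule R X := I • ⊤
    let e := RingEquiv.ofBijective _ hq
    let ψ : S →ₗ[R] R ⧸ I :=
      { toFun := fun s => e.symm (Ideal.Quotient.mk _ s)
        map_add' := fun a b => by rw [map_add, map_add]
        map_smul' := fun r a => by
          rw [RingHom.id_apply, Algebra.smul_def, map_mul, map_mul, Algebra.smul_def,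
            show e.symm (Ideal.Quotient.mk _ (algebraMap R S r)) = algebraMap R (R ⧸ I) r from
              e.injective (by rw [e.apply_symm_apply]; exact (Ideal.quotientMap_mk (H := Ideal.le_comap_map)).symm)] }
    let ρ : S ⊗[R] X →ₗ[R] X ⧸ X' :=
      (TensorProduct.quotTensorEquivQuotSMul X I).toLinearMap.comp (ψ.rTensor X)
    have hρ : ρ ((1 : S) ⊗ₜ x) = Submodule.Quotient.mk x := by
      show TensorProduct.quotTensorEquivQuotSMul X I (e.symm (Ideal.Quotient.mk _ 1) ⊗ₜ x) = _
      rw [map_one, map_one, show (1 : R ⧸ I) = Ideal.Quotient.mk I 1 from rfl,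
        TensorProduct.quotTensorEquivQuotSMul_mk_tmul, one_smul]
    have hx' : x ∈ X' := (Submodule.Quotient.mk_eq_zero _).1 (by
      rw [← hρ, show ((1 : S) ⊗ₜ[R] x) = 0 from hx, map_zero])
    have h0 : (1 : S) ⊗ₜ[R] (⟨x, hx'⟩ : X') = 0 :=
      Module.Flat.lTensor_preserves_injective_linearMap (M := S) X'.subtype (Submodule.subtype_injective _)
        (by rw [map_zero]; exact hx)
    have := ih X' (fun a ha y => Subtype.ext (by
        rcases y with ⟨y, hy⟩
        show a • y = 0
        refine Submodule.smul_induction_on hy (fun b hb w _ => ?_) fun u v hu hv => by rw [smul_add, hu, hv, add_zero]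
        rw [smul_smul]
        exact hX _ (pow_succ I k ▸ Ideal.mul_mem_mul ha hb) w))
      (show TensorProduct.mk R S X' 1 ⟨x, hx'⟩ = TensorProduct.mk R S X' 1 0 by rw [map_zero]; exact h0)
    exact congrArg Subtype.val this

variable {t : ℕ} (f : Fin t → R)

/-- The submodule killed by the `f i ^ E`. -/
def killedBy (E : ℕ) (Y : Type u) [AddCommGroup Y] [Module R Y] : Submodule R Y :=
  LinearMap.ker (LinearMap.pi fun i => f i ^ E • LinearMap.id : Y →ₗ[R] Fin t → Y)

theorem mem_killedBy {E : ℕ} {Y : Type u} [AddCommGroup Y] [Module R Y] {y : Y} :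
    y ∈ killedBy f E Y ↔ ∀ i, f i ^ E • y = 0 := by
  rw [killedBy, LinearMap.mem_ker, funext_iff]; rfl

theorem exists_pow_killed (hI : Ideal.span (Set.range f) = I) (E : ℕ) :
    ∃ k, I ^ k ≤ Ideal.span (Set.range fun i => f i ^ E) := by
  refine Ideal.exists_pow_le_of_le_radical_of_fg ?_ (hI ▸ Submodule.fg_span (Set.finite_range f))
  rw [← hI, Ideal.span_le]
  rintro _ ⟨i, rfl⟩
  exact ⟨E, Ideal.subset_span ⟨i, rfl⟩⟩

omit [Algebra R S] [Module.Flat R S] in
theorem killed_killedBy (hI : Ideal.span (Set.range f) = I) (E : ℕ) (Y : Type u) [AddCommGroup Y] [Module R Y] :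
    ∃ k, ∀ a ∈ I ^ k, ∀ y : killedBy f E Y, a • y = 0 := by
  obtain ⟨k, hk⟩ := exists_pow_killed f hI E
  refine ⟨k, fun a ha y => Submodule.span_induction (p := fun a _ => a • y = 0) ?_ ?_ ?_ ?_ (hk ha)⟩
  · rintro _ ⟨i, rfl⟩; exact Subtype.ext ((mem_killedBy f).1 y.2 i)
  · exact zero_smul _ _
  · intro a b _ _ ha hb; rw [add_smul, ha, hb, add_zero]
  · intro c a _ ha; rw [smul_eq_mul, mul_smul, ha, smul_zero]

include hq in
/-- Torsion of `S ⊗ Y` comes from torsion of `Y`. -/
theorem exists_of_killed (hI : Ideal.span (Set.range f) = I) {E : ℕ} {Y : Type u} [AddCommGroup Y] [Module R Y]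
    {d : S ⊗[R] Y} (hd : ∀ i, f i ^ E • d = 0) : ∃ y : Y, (∀ i, f i ^ E • y = 0) ∧ (1 : S) ⊗ₜ[R] y = d := by
  classical
  let φ : Y →ₗ[R] Fin t → Y := LinearMap.pi fun i => f i ^ E • LinearMap.id
  have h0 : φ.lTensor S d = 0 := by
    refine (TensorProduct.piRight R R S (fun _ : Fin t => Y)).injective (funext fun i => ?_)
    rw [map_zero, Pi.zero_apply, ← hd i]
    clear hd
    induction d using TensorProduct.induction_on with
    | zero => simp
    | tmul s y => simp [φ, TensorProduct.tmul_smul]
    | add a b ha hb => simp only [map_add, Pi.add_apply, ha, hb, smul_add]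
  obtain ⟨w, rfl⟩ := (Module.Flat.lTensor_exact S (LinearMap.exact_subtype_ker_map φ) d).1 h0
  obtain ⟨k, hk⟩ := killed_killedBy f hI E Y
  obtain ⟨y, hy⟩ := surjective_of_killed hq k (killedBy f E Y) hk w
  exact ⟨y, (mem_killedBy f).1 y.2, by rw [← hy]; rfl⟩

include hq in
/-- A torsion element vanishing in `S ⊗ X` is zero. -/
theorem eq_zero_of_killed (hI : Ideal.span (Set.range f) = I) {X : Type u} [AddCommGroup X] [Module R X] {x : X}
    (hx : ∀ i, ∃ n : ℕ, f i ^ n • x = 0) (h0 : (1 : S) ⊗ₜ[R] x = 0) : x = 0 := by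
  choose n hn using hx
  have hx' : x ∈ killedBy f (Finset.univ.sup n) X := (mem_killedBy f).2 fun i => by
    rw [← Nat.sub_add_cancel (Finset.le_sup (f := n) (Finset.mem_univ i)), pow_add, mul_smul, hn, smul_zero]
  obtain ⟨k, hk⟩ := killed_killedBy f hI (Finset.univ.sup n) X
  have h1 : (1 : S) ⊗ₜ[R] (⟨x, hx'⟩ : killedBy f (Finset.univ.sup n) X) = 0 :=
    Module.Flat.lTensor_preserves_injective_linearMap (M := S) (killedBy f (Finset.univ.sup n) X).subtype
      (Submodule.subtype_injective _) (by rw [map_zero]; exact h0)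
  exact congrArg Subtype.val (injective_of_killed hq k _ hk (a₁ := ⟨x, hx'⟩) (a₂ := 0) (by rw [map_zero]; exact h1))

end Groth.Agent.EtGlueLib
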