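import Mathlib
import Groth.Prelude.Def_EtGlue
import Groth.Agent.EtGlueLib.Basic

/-!
Beauville–Laszlo glueing: existence for modules and algebras.
-/

namespace Groth.Agent.EtGlueLib

universe u

open TensorProduct EtGlue

variable {R R' : Type u} [CommRing R] [CommRing R'] [Algebra R R'] {f : R}

theorem exists_module (hRR : EtGlue.IsGlueingPair R R' f) (M' : Type u) [AddCommGroup M'] [Module R' M']
    (M₁ : Type u) [AddCommGroup M₁] [Module R M₁] (hf : Function.Bijective fun x : M₁ => f • x)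
    (α : LocalizedModule (Submonoid.powers (algebraMap R R' f)) M' ≃ₗ[R'] R' ⊗[R] M₁) :
    ∃ (M : Type u) (_ : AddCommGroup M) (_ : Module R M) (_ : EtGlue.IsGlueable R R' f M)
      (e' : R' ⊗[R] M ≃ₗ[R'] M') (e₁ : LocalizedModule (Submonoid.powers f) M ≃ₗ[R] M₁),
      ∀ m : M, α (LocalizedModule.mkLinearMap (Submonoid.powers (algebraMap R R' f)) M'
        (e' ((1 : R') ⊗ₜ[R] m))) =
          (1 : R') ⊗ₜ[R] e₁ (LocalizedModule.mkLinearMap (Submonoid.powers f) M m) := by
  letI : Module R M' := Module.compHom M' (algebraMap R R')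
  haveI : IsScalarTower R R' M' := IsScalarTower.of_algebraMap_smul fun _ _ => rfl
  let S := Submonoid.powers (algebraMap R R' f)
  let β : M' →ₗ[R'] R' ⊗[R] M₁ := α.toLinearMap ∘ₗ LocalizedModule.mkLinearMap S M'
  have hβs : ∀ z, ∃ (n : ℕ) (x : M'), f ^ n • z = β x := fun z => by
    obtain ⟨⟨x, ⟨_, n, rfl⟩⟩, hx⟩ := IsLocalizedModule.surj S (LocalizedModule.mkLinearMap S M') (α.symm z)
    refine ⟨n, x, ?_⟩
    rw [Submonoid.smul_def, ← map_smul] at hx
    show f ^ n • z = α (LocalizedModule.mkLinearMap S M' x)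
    rw [← hx, α.apply_symm_apply, ← algebraMap_smul R' (f ^ n) z, map_pow]
  have hβk : ∀ x, β x = 0 → ∃ n : ℕ, f ^ n • x = 0 := fun x hx => by
    obtain ⟨⟨_, n, rfl⟩, hn⟩ := (IsLocalizedModule.eq_zero_iff S (LocalizedModule.mkLinearMap S M')).1
      (α.map_eq_zero_iff.1 hx)
    exact ⟨n, (algebraMap_smul R' (f ^ n) x).symm.trans (by rw [map_pow]; exact hn)⟩
  let M : Submodule R (M' × M₁) :=
    LinearMap.eqLocus ((β.restrictScalars R) ∘ₗ LinearMap.fst R M' M₁)
      ((TensorProduct.mk R R' M₁ 1) ∘ₗ LinearMap.snd R M' M₁)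
  let p : M →ₗ[R] M' := LinearMap.fst R M' M₁ ∘ₗ M.subtype
  let q : M →ₗ[R] M₁ := LinearMap.snd R M' M₁ ∘ₗ M.subtype
  have hinj : ∀ m, p m = 0 → q m = 0 → m = 0 := fun m h1 h2 => Subtype.ext (Prod.ext h1 h2)
  have hrange : ∀ m, β (p m) = (1 : R') ⊗ₜ[R] q m := fun m => m.2
  have hlift : ∀ x y, β x = (1 : R') ⊗ₜ[R] y → ∃ m, p m = x ∧ q m = y := fun x y hxy =>
    ⟨⟨(x, y), hxy⟩, rfl, rfl⟩
  haveI := snd_isLocalizedModule hf β hβs hβk p q hinj hrange hlift
  refine ⟨M, inferInstance, inferInstance, isGlueable hRR hf p q hinj,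
    LinearEquiv.ofBijective _ (fstBaseChange_bijective hRR hf β hβs hβk p q hinj hrange hlift),
    IsLocalizedModule.iso (Submonoid.powers f) q, fun m => ?_⟩
  rw [LinearEquiv.ofBijective_apply, fstBaseChange_one_tmul, LocalizedModule.mkLinearMap_apply (M := M),
    IsLocalizedModule.iso_mk_one]
  exact hrange m

theorem exists_algebra (hRR : EtGlue.IsGlueingPair R R' f) (A₁ : Type u) [CommRing A₁] [Algebra R A₁]
    (h₁ : IsUnit (algebraMap R A₁ f)) (A' : Type u) [CommRing A'] [Algebra R A'] [Algebra R' A']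
    [IsScalarTower R R' A'] (φ : Localization.Away (algebraMap R A' f) ≃ₐ[R'] R' ⊗[R] A₁) :
    ∃ (A : Type u) (_ : CommRing A) (_ : Algebra R A) (_ : EtGlue.IsGlueable R R' f A)
      (e₁ : Localization.Away (algebraMap R A f) ≃ₐ[R] A₁) (e' : R' ⊗[R] A ≃ₐ[R'] A'),
      ∀ a : A, φ (algebraMap A' (Localization.Away (algebraMap R A' f)) (e' ((1 : R') ⊗ₜ[R] a))) =
        (1 : R') ⊗ₜ[R] e₁ (algebraMap A (Localization.Away (algebraMap R A f)) a) := by
  let L := Localization.Away (algebraMap R A' f)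
  let βa : A' →ₐ[R'] R' ⊗[R] A₁ := φ.toAlgHom.comp (IsScalarTower.toAlgHom R' A' L)
  let A : Subalgebra R (A' × A₁) :=
    AlgHom.equalizer ((βa.restrictScalars R).comp (AlgHom.fst R A' A₁))
      ((Algebra.TensorProduct.includeRight : A₁ →ₐ[R] R' ⊗[R] A₁).comp (AlgHom.snd R A' A₁))
  let pa : A →ₐ[R] A' := (AlgHom.fst R A' A₁).comp A.val
  let qa : A →ₐ[R] A₁ := (AlgHom.snd R A' A₁).comp A.val
  have hf : Function.Bijective fun x : A₁ => f • x := by
    simp_rw [Algebra.smul_def]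
    exact h₁.unit.mulLeft_bijective
  have hβs : ∀ z, ∃ (n : ℕ) (x : A'), f ^ n • z = βa.toLinearMap x := fun z => by
    obtain ⟨⟨x, ⟨_, n, rfl⟩⟩, hx⟩ := IsLocalization.surj (Submonoid.powers (algebraMap R A' f)) (φ.symm z)
    refine ⟨n, x, ?_⟩
    show f ^ n • z = φ (algebraMap A' L x)
    rw [← hx, map_mul, φ.apply_symm_apply, map_pow, map_pow, Algebra.smul_def, mul_comm, map_pow]
    rw [← IsScalarTower.algebraMap_apply R A' L, IsScalarTower.algebraMap_apply R R' L, φ.commutes,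
      ← IsScalarTower.algebraMap_apply R R' (R' ⊗[R] A₁)]
  have hβk : ∀ x, βa.toLinearMap x = 0 → ∃ n : ℕ, f ^ n • x = 0 := fun x hx => by
    obtain ⟨⟨_, n, rfl⟩, hn⟩ := (IsLocalization.map_eq_zero_iff (Submonoid.powers (algebraMap R A' f)) L x).1
      ((map_eq_zero_iff φ φ.injective).1 hx)
    exact ⟨n, by rw [Algebra.smul_def, map_pow]; exact hn⟩
  have hinj : ∀ m, pa.toLinearMap m = 0 → qa.toLinearMap m = 0 → m = 0 := fun m h1 h2 =>
    Subtype.ext (Prod.ext h1 h2)
  have hrange : ∀ m, βa.toLinearMap (pa.toLinearMap m) = (1 : R') ⊗ₜ[R] qa.toLinearMap m := fun m => m.2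
  have hlift : ∀ x y, βa.toLinearMap x = (1 : R') ⊗ₜ[R] y → ∃ m, pa.toLinearMap m = x ∧ qa.toLinearMap m = y :=
    fun x y hxy => ⟨⟨(x, y), hxy⟩, rfl, rfl⟩
  haveI hloc := snd_isLocalizedModule hf βa.toLinearMap hβs hβk pa.toLinearMap qa.toLinearMap hinj hrange hlift
  letI : Algebra A A₁ := qa.toAlgebra
  haveI : IsScalarTower R A A₁ := IsScalarTower.of_algebraMap_eq fun r => (qa.commutes r).symm
  haveI hlocq : IsLocalizedModule (Submonoid.powers f) (IsScalarTower.toAlgHom R A A₁).toLinearMap := hloc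
  haveI : IsLocalization.Away (algebraMap R A f) A₁ := by
    have := (isLocalizedModule_iff_isLocalization (S := Submonoid.powers f) (A := A) (Aₛ := A₁)).1 hlocq
    rwa [Algebra.algebraMapSubmonoid_powers] at this
  let e' : R' ⊗[R] A →ₐ[R'] A' := Algebra.TensorProduct.lift (Algebra.ofId R' A') pa fun _ _ => mul_comm _ _
  have he' : (e' : R' ⊗[R] A → A') = fstBaseChange pa.toLinearMap := by
    funext w
    induction w using TensorProduct.induction_on with
    | zero => simp
    | tmul r a =>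
      rw [fstBaseChange, LinearMap.liftBaseChange_tmul, Algebra.smul_def]
      exact Algebra.TensorProduct.lift_tmul _ _ _ r a
    | add a b ha hb => rw [map_add, map_add, ha, hb]
  have hbij : Function.Bijective e' := by
    rw [he']
    exact fstBaseChange_bijective hRR hf βa.toLinearMap hβs hβk pa.toLinearMap qa.toLinearMap hinj hrange hlift
  let e₁ := (IsLocalization.algEquiv (Submonoid.powers (algebraMap R A f))
    (Localization.Away (algebraMap R A f)) A₁).restrictScalars R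
  refine ⟨A, inferInstance, inferInstance, isGlueable hRR hf pa.toLinearMap qa.toLinearMap hinj,
    e₁, AlgEquiv.ofBijective e' hbij, fun a => ?_⟩
  show φ (algebraMap A' L (e' (1 ⊗ₜ a))) = _
  rw [he', fstBaseChange_one_tmul]
  refine (hrange a).trans (congrArg _ ?_)
  exact ((IsLocalization.algEquiv (Submonoid.powers (algebraMap R A f))
    (Localization.Away (algebraMap R A f)) A₁).commutes a).symm

end Groth.Agent.EtGlueLib
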